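import Cfsg.Agent.J4Maximal.P37.Words

/-!
The certificates and the exclusions are correct.
-/

set_option autoImplicit false
set_option maxRecDepth 20000
set_option Elab.async false

namespace Cfsg.Lib.J4Maximal.P37

theorem crt1_ok : (crt1.all fun e => e.2.1.ok 29 (yW1 e.1) && e.2.2.ok 43 (yW1 e.1)) = true := by decide +kernel
theorem crt1_all : ((List.range 4).all fun m => (List.range 4).all fun b =>
    (m == 0 && b == 0) || crt1.any fun e => e.1 == (m, b)) = true := by decide +kernel
theorem crt2_ok : (crt2.all fun e => e.2.1.ok 29 (yW2 e.1) && e.2.2.ok 43 (yW2 e.1)) = true := by decide +kernel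
theorem crt3_ok : (crt3.all fun e => e.2.1.ok 29 (yW3 e.1) && e.2.2.ok 43 (yW3 e.1)) = true := by decide +kernel
theorem filt_ok : filt.all filtOK = true := by decide +kernel
theorem cover_ok : cover.all coverOK = true := by decide +kernel
theorem orbit_ok : ((List.range 165).all fun r => r == 0 || covered r || nonOrd r) = true := by decide +kernel
theorem cube_ok : ((List.range 20).all fun r => (List.range 48).all fun i => cubeOK r i) = true := by decide +kernel

end Cfsg.Lib.J4Maximal.P37
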