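import Cfsg.Agent.J4Maximal.P37.Words

/-!
The keys are distinct.
-/

set_option autoImplicit false
set_option maxRecDepth 20000
set_option Elab.async false

namespace Cfsg.Lib.J4Maximal.P37

theorem key0_ok : incr key0 (2 ^ 112) 0 ord0 = true := by decide +kernel
theorem key1_ok : incr key1 (2 ^ 112) 0 ord1 = true := by decide +kernel
theorem key2_ok0 : incr key2 (bnd2.getD 1 0) (bnd2.getD 0 0) ord2_0 = true := by decide +kernel
theorem key2_ok1 : incr key2 (bnd2.getD 2 0) (bnd2.getD 1 0) ord2_1 = true := by decide +kernel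
theorem key2_ok2 : incr key2 (bnd2.getD 3 0) (bnd2.getD 2 0) ord2_2 = true := by decide +kernel
theorem key2_ok3 : incr key2 (bnd2.getD 4 0) (bnd2.getD 3 0) ord2_3 = true := by decide +kernel
theorem key2_ok4 : incr key2 (bnd2.getD 5 0) (bnd2.getD 4 0) ord2_4 = true := by decide +kernel
theorem key2_ok5 : incr key2 (bnd2.getD 6 0) (bnd2.getD 5 0) ord2_5 = true := by decide +kernel
theorem key2_ok6 : incr key2 (bnd2.getD 7 0) (bnd2.getD 6 0) ord2_6 = true := by decide +kernel
theorem key2_ok7 : incr key2 (bnd2.getD 8 0) (bnd2.getD 7 0) ord2_7 = true := by decide +kernel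

end Cfsg.Lib.J4Maximal.P37
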