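import Cfsg.Agent.J4Maximal.P37.Gens
import Cfsg.Agent.J4Maximal.P37.Keys

/-!
The centralisers of orders 48, 2304 and 2661120 and the complete lists.
-/

set_option autoImplicit false
set_option maxRecDepth 8000
set_option synthInstance.maxSize 4000
set_option linter.style.haveILetI false

namespace Cfsg.Lib.J4Maximal.P37

open Cfsg Cfsg.Lib.J4Cert Subgroup

attribute [local irreducible] rep1 rep1i rep2 rep2i ord0 ord1 ord2_0 ord2_1 ord2_2 ord2_3 ord2_4 ord2_5 ord2_6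
  ord2_7 w0 key0 key1 key2 ptabs

theorem incr_bounds {α : Type} (key : α → ℕ) : ∀ (l : List α) (lo hi : ℕ), incr key hi lo l = true →
    lo ≤ hi ∧ (∀ a ∈ l, lo ≤ key a ∧ key a < hi) ∧ l.Pairwise fun a b => key a < key b
  | [], lo, hi, h => ⟨Nat.le_of_ble_eq_true h, by simp, List.Pairwise.nil⟩
  | a :: l, lo, hi, h => by
    simp only [incr, Bool.and_eq_true, Nat.ble_eq] at h
    obtain ⟨h1, h2, h3⟩ := incr_bounds key l _ hi h.2
    refine ⟨by omega, fun b hb => ?_, List.pairwise_cons.mpr ⟨fun b hb => by have := (h2 b hb).1; omega, h3⟩⟩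
    rcases List.mem_cons.mp hb with rfl | hb
    · exact ⟨h.1, by omega⟩
    · have := h2 b hb; exact ⟨by omega, this.2⟩

theorem pairwise_inj {α : Type} {key : α → ℕ} {l : List α} (h : l.Pairwise fun a b => key a < key b) :
    ∀ i j : Fin l.length, key (l.get i) = key (l.get j) → i = j := by
  intro i j e
  rw [List.pairwise_iff_get] at h
  rcases lt_trichotomy i j with hl | hl | hl
  · exact absurd e (h i j hl).ne
  · exact hl
  · exact absurd e.symm (h j i hl).ne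

theorem ord2_pairwise : (ord2.Pairwise fun a b => key2 a < key2 b) := by
  have h0 := incr_bounds key2 _ _ _ key2_ok0
  have h1 := incr_bounds key2 _ _ _ key2_ok1
  have h2 := incr_bounds key2 _ _ _ key2_ok2
  have h3 := incr_bounds key2 _ _ _ key2_ok3
  have h4 := incr_bounds key2 _ _ _ key2_ok4
  have h5 := incr_bounds key2 _ _ _ key2_ok5
  have h6 := incr_bounds key2 _ _ _ key2_ok6
  have h7 := incr_bounds key2 _ _ _ key2_ok7
  have step : ∀ {a b : List (ℕ × ℕ)} {lo m hi : ℕ},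
      (lo ≤ m ∧ (∀ x ∈ a, lo ≤ key2 x ∧ key2 x < m) ∧ a.Pairwise fun x y => key2 x < key2 y) →
      (m ≤ hi ∧ (∀ x ∈ b, m ≤ key2 x ∧ key2 x < hi) ∧ b.Pairwise fun x y => key2 x < key2 y) →
      (lo ≤ hi ∧ (∀ x ∈ a ++ b, lo ≤ key2 x ∧ key2 x < hi) ∧ (a ++ b).Pairwise fun x y => key2 x < key2 y) := by
    intro a b lo m hi ha hb
    refine ⟨ha.1.trans hb.1, fun x hx => ?_, List.pairwise_append.mpr ⟨ha.2.2, hb.2.2, fun x hx y hy => ?_⟩⟩
    · rcases List.mem_append.mp hx with hx | hx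
      · exact ⟨(ha.2.1 x hx).1, lt_of_lt_of_le (ha.2.1 x hx).2 hb.1⟩
      · exact ⟨ha.1.trans (hb.2.1 x hx).1, (hb.2.1 x hx).2⟩
    · exact lt_of_lt_of_le (ha.2.1 x hx).2 (hb.2.1 y hy).1
  exact (step (step (step (step (step (step (step h0 h1) h2) h3) h4) h5) h6) h7).2.2

theorem list_shapes : ord0.length = 48 ∧ (∀ i ∈ ord0, i < 48) ∧ ord1.length = 48 ∧ (∀ p ∈ ord1, p.1 < 20 ∧ p.2 < 48) ∧
    ord2.length = 1155 ∧ ∀ p ∈ ord2, p.1 < 165 ∧ p.2 < 48 := by
  have h := shape_ok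
  simp only [shapeOK, Bool.and_eq_true, List.all_eq_true, decide_eq_true_eq, beq_iff_eq] at h
  exact ⟨h.1.1.1.1.1.1.1.1.1.1.1.1.1.1.2, h.1.1.1.1.1.1.1.1.1.1.1.1.1.2, h.1.1.1.1.1.1.1.1.1.1.1.1.2,
    h.1.1.1.1.1.1.1.1.1.1.1.2, h.1.1.1.1.1.1.1.1.1.1.2, h.1.1.1.1.1.1.1.1.1.2⟩

/-- A conjugate of the element of order 12. -/
noncomputable def gT1 (p : ℕ × ℕ) : Spor.J4 := (gE p.2)⁻¹ * ((gR p.1)⁻¹ * gV * gR p.1) * gE p.2

/-- A conjugate of the involution. -/
noncomputable def gT (p : ℕ × ℕ) : Spor.J4 := (gE p.2)⁻¹ * ((gS p.1)⁻¹ * gV ^ 6 * gS p.1) * gE p.2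

theorem key0_eq {i : ℕ} (hi : i < 48) : key0 i = (img (gE i) W).1 := by
  rw [← ev_cW hi, ← act_eq _ (lt_of_cW i hi).1 W]
  unfold key0 W
  rfl

theorem key1_eq {p : ℕ × ℕ} (hp : p.1 < 20 ∧ p.2 < 48) : key1 p = (img (gT1 p) W).1 := by
  have e : ev (dW p.2 ++ conj1 p.1 ++ cW p.2) = gT1 p := by
    rw [ev_append, ev_append, ev_conj1 hp.1, ev_cW hp.2, ev_dW hp.2, gT1]
  rw [← e, ← act_eq _ (fun k hk => ?_) W]
  · unfold key1 W
    rfl
  · simp only [List.mem_append] at hk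
    rcases hk with (hk | hk) | hk
    exacts [(lt_of_cW _ hp.2).2 k hk, conj_lt.1 _ hp.1 k (List.mem_append_left _ hk), (lt_of_cW _ hp.2).1 k hk]

theorem key2_eq {p : ℕ × ℕ} (hp : p.1 < 165 ∧ p.2 < 48) : key2 p = (img (gT p) W).1 := by
  have e : ev (dW p.2 ++ conj2 p.1 ++ cW p.2) = gT p := by
    rw [ev_append, ev_append, ev_conj2 hp.1, ev_cW hp.2, ev_dW hp.2, gT]
  rw [← e, ← act_eq _ (fun k hk => ?_) W]
  · unfold key2 W
    rfl
  · simp only [List.mem_append] at hk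
    rcases hk with (hk | hk) | hk
    exacts [(lt_of_cW _ hp.2).2 k hk, conj_lt.2 _ hp.1 k hk, (lt_of_cW _ hp.2).1 k hk]

/-- The centraliser of the element of order 12. -/
abbrev C48 : Subgroup Spor.J4 := centralizer ({gV} : Set Spor.J4)
/-- The centraliser of its tenth power, of order 6. -/
abbrev C2304 : Subgroup Spor.J4 := centralizer ({gV ^ 10} : Set Spor.J4)
/-- The centraliser of its fourth power, of order 3. -/
abbrev Cw : Subgroup Spor.J4 := centralizer ({gV ^ 4} : Set Spor.J4)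

theorem mem_cent_iff {a g : Spor.J4} : g ∈ centralizer ({a} : Set Spor.J4) ↔ Commute g a :=
  mem_centralizer_singleton_iff

theorem gV_pow_mod (n : ℕ) : gV ^ n = gV ^ (n % 12) := pow_eq_pow_mod n base_rels.2.2.1

theorem C2304_iff {g : Spor.J4} : g ∈ C2304 ↔ g ∈ Cw ∧ Commute g (gV ^ 6) := by
  rw [mem_cent_iff, mem_cent_iff]
  have e4 : (gV ^ 10) ^ 4 = gV ^ 4 := by rw [← pow_mul, gV_pow_mod]
  have e6 : (gV ^ 10) ^ 3 = gV ^ 6 := by rw [← pow_mul, gV_pow_mod]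
  have e10 : gV ^ 4 * gV ^ 6 = gV ^ 10 := by rw [← pow_add]
  constructor
  · intro h
    exact ⟨e4 ▸ h.pow_right 4, e6 ▸ h.pow_right 3⟩
  · rintro ⟨h1, h2⟩
    exact e10 ▸ h1.mul_right h2

theorem gE_mem (i : ℕ) : gE i ∈ C48 := mem_cent_iff.mpr (gE_comm i)

theorem C48_le : C48 ≤ C2304 := fun _ h => mem_cent_iff.mpr ((mem_cent_iff.mp h).pow_right 10)

theorem gR_mem {r : ℕ} (hr : r < 20) : gR r ∈ C2304 :=
  C2304_iff.mpr ⟨mem_cent_iff.mpr (gR_comm hr).1, (gR_comm hr).2⟩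

/-- The lists are complete. -/
theorem complete (hw : Nat.card Cw ≤ 2661120) :
    (∀ c ∈ C48, ∃ i < 48, c = gE i) ∧
    (∀ f ∈ C2304, ∃ c ∈ C48, ∃ r < 20, ∃ i < 48, f = c * (gR r * gE i)) ∧
    (∀ h ∈ Cw, ∃ p ∈ ord2, h⁻¹ * gV ^ 6 * h = gT p) ∧
    Nat.card C2304 = 2304 ∧ Nat.card Cw = 2661120 := by
  haveI := finite_J4
  obtain ⟨l0, m0, l1, m1, l2, m2⟩ := list_shapes
  -- the first map
  let f0 : Fin ord0.length → C48 := fun i => ⟨gE (ord0.get i), gE_mem _⟩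
  have i0 : Function.Injective f0 := by
    intro i j e
    refine pairwise_inj (incr_bounds key0 _ _ _ key0_ok).2.2 i j ?_
    rw [key0_eq (m0 _ (List.get_mem _ i)), key0_eq (m0 _ (List.get_mem _ j))]
    exact congrArg (fun g : C48 => (img (g : Spor.J4) W).1) e
  have c0 : 48 ≤ Nat.card C48 := by
    have := Nat.card_le_card_of_injective f0 i0
    rwa [Nat.card_fin, l0] at this
  -- the second map
  let g1 : Fin ord1.length → Spor.J4 := fun k => gR (ord1.get k).1 * gE (ord1.get k).2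
  have g1_mem : ∀ k, g1 k ∈ C2304 := fun k =>
    mul_mem (gR_mem (m1 _ (List.get_mem _ k)).1) (C48_le (gE_mem _))
  let f1 : Fin ord1.length × C48 → C2304 := fun x => ⟨(x.2 : Spor.J4) * g1 x.1, mul_mem (C48_le x.2.2) (g1_mem _)⟩
  have hconj1 : ∀ (c : C48) k, ((c : Spor.J4) * g1 k)⁻¹ * gV * ((c : Spor.J4) * g1 k) = gT1 (ord1.get k) := by
    intro c k
    have h : (c : Spor.J4)⁻¹ * gV * (c : Spor.J4) = gV := by
      rw [mul_assoc, ← (mem_cent_iff.mp c.2).eq, inv_mul_cancel_left]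
    show _ = (gE _)⁻¹ * ((gR _)⁻¹ * gV * gR _) * gE _
    conv_rhs => rw [← h]
    simp only [g1]
    group
  have i1 : Function.Injective f1 := by
    rintro ⟨k, c⟩ ⟨k', c'⟩ e
    have e' : (c : Spor.J4) * g1 k = (c' : Spor.J4) * g1 k' := congrArg Subtype.val e
    have hk : k = k' := by
      refine pairwise_inj (incr_bounds key1 _ _ _ key1_ok).2.2 k k' ?_
      rw [key1_eq (m1 _ (List.get_mem _ k)), key1_eq (m1 _ (List.get_mem _ k')), ← hconj1 c k, ← hconj1 c' k', e']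
    subst hk
    exact Prod.ext rfl (Subtype.ext (mul_right_cancel e'))
  have c1 : 48 * Nat.card C48 ≤ Nat.card C2304 := by
    have := Nat.card_le_card_of_injective f1 i1
    rwa [Nat.card_prod, Nat.card_fin, l1] at this
  -- the third map
  let g2 : Fin ord2.length → Spor.J4 := fun k => gS (ord2.get k).1 * gE (ord2.get k).2
  have g2_mem : ∀ k, g2 k ∈ Cw := fun k => mul_mem (mem_cent_iff.mpr (gS_comm (m2 _ (List.get_mem _ k)).1))
    (C2304_iff.mp (C48_le (gE_mem _))).1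
  let f2 : Fin ord2.length × C2304 → Cw := fun x =>
    ⟨(x.2 : Spor.J4) * g2 x.1, mul_mem (C2304_iff.mp x.2.2).1 (g2_mem _)⟩
  have hconj2 : ∀ (c : C2304) k, ((c : Spor.J4) * g2 k)⁻¹ * gV ^ 6 * ((c : Spor.J4) * g2 k) = gT (ord2.get k) := by
    intro c k
    have h : (c : Spor.J4)⁻¹ * gV ^ 6 * (c : Spor.J4) = gV ^ 6 := by
      rw [mul_assoc, ← (C2304_iff.mp c.2).2.eq, inv_mul_cancel_left]
    show _ = (gE _)⁻¹ * ((gS _)⁻¹ * gV ^ 6 * gS _) * gE _
    conv_rhs => rw [← h]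
    simp only [g2]
    group
  have i2 : Function.Injective f2 := by
    rintro ⟨k, c⟩ ⟨k', c'⟩ e
    have e' : (c : Spor.J4) * g2 k = (c' : Spor.J4) * g2 k' := congrArg Subtype.val e
    have hk : k = k' := by
      refine pairwise_inj ord2_pairwise k k' ?_
      rw [key2_eq (m2 _ (List.get_mem _ k)), key2_eq (m2 _ (List.get_mem _ k')), ← hconj2 c k, ← hconj2 c' k', e']
    subst hk
    exact Prod.ext rfl (Subtype.ext (mul_right_cancel e'))
  have c2 : 1155 * Nat.card C2304 ≤ Nat.card Cw := by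
    have := Nat.card_le_card_of_injective f2 i2
    rwa [Nat.card_prod, Nat.card_fin, l2] at this
  have e0 : Nat.card C48 = 48 := by omega
  have e1 : Nat.card C2304 = 2304 := by omega
  have e2 : Nat.card Cw = 2661120 := by omega
  have b0 : Function.Bijective f0 :=
    (Nat.bijective_iff_injective_and_card f0).mpr ⟨i0, by rw [Nat.card_fin, l0, e0]⟩
  have b1 : Function.Bijective f1 :=
    (Nat.bijective_iff_injective_and_card f1).mpr ⟨i1, by rw [Nat.card_prod, Nat.card_fin, l1, e0, e1]⟩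
  have b2 : Function.Bijective f2 :=
    (Nat.bijective_iff_injective_and_card f2).mpr ⟨i2, by rw [Nat.card_prod, Nat.card_fin, l2, e1, e2]⟩
  refine ⟨fun c hc => ?_, fun f hf => ?_, fun h hh => ?_, e1, e2⟩
  · obtain ⟨i, hi⟩ := b0.2 ⟨c, hc⟩
    exact ⟨_, m0 _ (List.get_mem _ i), (congrArg Subtype.val hi).symm⟩
  · obtain ⟨⟨k, c⟩, hk⟩ := b1.2 ⟨f, hf⟩
    exact ⟨c, c.2, _, (m1 _ (List.get_mem _ k)).1, _, (m1 _ (List.get_mem _ k)).2, (congrArg Subtype.val hk).symm⟩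
  · obtain ⟨⟨k, c⟩, hk⟩ := b2.2 ⟨h, hh⟩
    refine ⟨_, List.get_mem _ k, ?_⟩
    have e : (c : Spor.J4) * g2 k = h := congrArg Subtype.val hk
    rw [← hconj2 c k, e]

theorem card_Cw (hw : Nat.card Cw ≤ 2661120) : Nat.card Cw = 2661120 := (complete hw).2.2.2.2

end Cfsg.Lib.J4Maximal.P37
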