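import Cfsg.Agent.J4Maximal.P37.Rels
import Cfsg.Agent.J4Eleven.Main

/-!
The elements behind the finite checks for the prime 37.
-/

set_option autoImplicit false
set_option maxRecDepth 8000
set_option synthInstance.maxSize 4000

namespace Cfsg.Lib.J4Maximal.P37

open Cfsg Cfsg.Lib.J4Cert Cfsg.Lib.J4Eleven Subgroup

attribute [local irreducible] mB mPow nd pnode ptabs ptab tabs4 vt leq

/-- The element of a node. -/
noncomputable def nel (j : ℕ) : Spor.J4 := if h : j < 522 then (nd_mem j h).choose else 1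

/-- The element of a pool entry. -/
noncomputable def pe (k : ℕ) : Spor.J4 := nel (pnode.getD k 0)

theorem pool_lt {k : ℕ} (hk : k < 37) : pnode.getD k 0 < 522 ∧ tabs4 (pm' k) = ptab k := by
  have h := pool_ok
  simp only [poolOK, List.all_eq_true, List.mem_range, Bool.and_eq_true, decide_eq_true_eq] at h
  exact ⟨(h k hk).1, leq_eq (h k hk).2⟩

theorem pe_ok {k : ℕ} (hk : k < 37) : MOK (pe k) (pm' k) := by
  unfold pe nel pm'
  rw [dif_pos (pool_lt hk).1]
  exact (nd_mem _ (pool_lt hk).1).choose_spec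

/-- The value of a word. -/
noncomputable def ev (l : List ℕ) : Spor.J4 := (l.map pe).prod

theorem ev_nil : ev [] = 1 := rfl

theorem ev_cons (k : ℕ) (l : List ℕ) : ev (k :: l) = pe k * ev l := List.prod_cons

theorem ev_append (l m : List ℕ) : ev (l ++ m) = ev l * ev m := by
  rw [ev, List.map_append, List.prod_append]
  rfl

theorem ev_single (k : ℕ) : ev [k] = pe k := by rw [ev_cons, ev_nil, mul_one]

/-- The image of a vector. -/
noncomputable def img (g : Spor.J4) (z : J4Rep.Vec) : J4Rep.Vec := (rhoG g).symm z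

theorem img_mul (g h : Spor.J4) (z : J4Rep.Vec) : img (g * h) z = img h (img g z) := by
  unfold img
  rw [map_mul]
  rfl

theorem img_one (z : J4Rep.Vec) : img 1 z = z := by
  unfold img
  rw [map_one]
  rfl

theorem img_pe {k : ℕ} (hk : k < 37) (z : J4Rep.Vec) : (img (pe k) z).1 = vt (ptab k) z.1 := by
  unfold img
  have hok := (pe_ok hk).1
  simp only [okMat, Bool.and_eq_true, List.all_eq_true, decide_eq_true_eq] at hok
  rw [(pe_ok hk).2 z, ← (pool_lt hk).2, vt_eq _ _ hok.2 (by rw [Nat.eq_of_beq_eq_true hok.1])]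

theorem act_eq : ∀ (l : List ℕ), (∀ k ∈ l, k < 37) → ∀ z : J4Rep.Vec, act l z.1 = (img (ev l) z).1
  | [], _, z => by rw [ev_nil, img_one]; rfl
  | k :: l, hl, z => by
    rw [ev_cons, img_mul, act, ← img_pe (hl k List.mem_cons_self) z]
    exact act_eq l (fun j hj => hl j (List.mem_cons_of_mem _ hj)) _

theorem rep_eq (l : List ℕ) (hl : ∀ k ∈ l, k < 37) : ∀ (n : ℕ) (z : J4Rep.Vec),
    rep l n z.1 = (img (ev l ^ n) z).1
  | 0, z => by rw [pow_zero (ev l), img_one]; rfl
  | n + 1, z => by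
    rw [pow_succ' (ev l) n, img_mul, rep, act_eq l hl z]
    exact rep_eq l hl n _

/-- A vector certificate for a prime dividing the order. -/
theorem dvd_order {l : List ℕ} (hl : ∀ k ∈ l, k < 37) {q z : ℕ} (hq : q.Prime) (h : moved l q z = true) :
    q ∣ orderOf (ev l) := by
  simp only [moved, Bool.and_eq_true, decide_eq_true_eq, beq_iff_eq, bne_iff_ne] at h
  obtain ⟨⟨hz, h1⟩, h2⟩ := h
  set g := ev l
  set Z : J4Rep.Vec := ⟨z, hz⟩
  have hfix : img (g ^ q) Z = Z := Subtype.ext (by rw [← rep_eq l hl q Z]; exact h1)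
  have hmv : img g Z ≠ Z := fun e => h2 (by rw [show z = Z.1 from rfl, act_eq l hl Z, e])
  by_contra hd
  have hcop : q.Coprime (orderOf g) := (Nat.Prime.coprime_iff_not_dvd hq).mpr hd
  obtain ⟨m, hm⟩ := exists_pow_eq_self_of_coprime hcop
  apply hmv
  rw [← hm]
  clear hm
  induction m with
  | zero => rw [pow_zero (g ^ q), img_one]
  | succ m ih => rw [pow_succ' (g ^ q) m, img_mul, hfix, ih]

/-- The test vector. -/
def W : J4Rep.Vec := ⟨w0, by
  have h := shape_ok
  simp only [shapeOK, Bool.and_eq_true, decide_eq_true_eq] at h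
  exact h.1.1.1.1.1.1.1.1.1.1.1.1.1.1.1⟩

theorem ev_ne_of_act {l m : List ℕ} (hl : ∀ k ∈ l, k < 37) (hm : ∀ k ∈ m, k < 37) (h : act l w0 ≠ act m w0) :
    ev l ≠ ev m := fun e => h (by rw [show w0 = W.1 from rfl, act_eq l hl, act_eq m hm, e])

end Cfsg.Lib.J4Maximal.P37
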