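import Cfsg.Agent.J4Maximal.P37.Count
import Cfsg.Agent.J4Maximal.P37.Certs

/-!
The certificates and exclusions in terms of elements of a subgroup containing the group of order 444.
-/

set_option autoImplicit false
set_option maxRecDepth 8000
set_option synthInstance.maxSize 4000
set_option linter.style.haveILetI false

namespace Cfsg.Lib.J4Maximal.P37

open Cfsg Cfsg.Lib.J4Cert Subgroup

attribute [local irreducible] rep1 rep1i rep2 rep2i w0 key2 ptabs crt1 crt2 crt3 filt cover act rep moved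

/-- Every subgroup with elements of orders 29, 37 and 43 is the whole group. -/
def TopPrimes : Prop :=
  ∀ M : Subgroup Spor.J4, 29 ∣ Nat.card M → 37 ∣ Nat.card M → 43 ∣ Nat.card M → M = ⊤

theorem card_dvd_of_mem {M : Subgroup Spor.J4} {g : Spor.J4} (hg : g ∈ M) {q : ℕ} (h : q ∣ orderOf g) :
    q ∣ Nat.card M := by
  have := orderOf_dvd_natCard (⟨g, hg⟩ : M)
  rw [Subgroup.orderOf_mk] at this
  exact h.trans this

theorem ev_mem {M : Subgroup Spor.J4} : ∀ {l : List ℕ}, (∀ k ∈ l, pe k ∈ M) → ev l ∈ M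
  | [], _ => by rw [ev_nil]; exact one_mem M
  | k :: l, h => by
    rw [ev_cons]
    exact mul_mem (h k List.mem_cons_self) (ev_mem fun j hj => h j (List.mem_cons_of_mem _ hj))

theorem xLetter_mem {M : Subgroup Spor.J4} (hx : gX ∈ M) (hv : gV ∈ M) {k : ℕ} (h : xLetter k = true) :
    k < 37 ∧ pe k ∈ M := by
  simp only [xLetter, Bool.or_eq_true, beq_iff_eq, decide_eq_true_eq] at h
  rcases h with (rfl | ⟨h1, h2⟩) | ⟨h1, h2⟩
  · exact ⟨by norm_num, hx⟩
  · obtain ⟨a, rfl⟩ : ∃ a, k = 11 + a := ⟨k - 11, by omega⟩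
    exact ⟨by omega, base_rels.2.2.2.1 a (by omega) (by omega) ▸ pow_mem hv a⟩
  · refine ⟨h2, ?_⟩
    interval_cases k
    exacts [xpow_rels (29, 1) (by simp) ▸ pow_mem hx _, xpow_rels (30, 2) (by simp) ▸ pow_mem hx _,
      xpow_rels (31, 3) (by simp) ▸ pow_mem hx _, xpow_rels (32, 4) (by simp) ▸ pow_mem hx _,
      xpow_rels (33, 5) (by simp) ▸ pow_mem hx _, xpow_rels (34, 7) (by simp) ▸ pow_mem hx _,
      xpow_rels (35, 9) (by simp) ▸ pow_mem hx _, xpow_rels (36, 11) (by simp) ▸ pow_mem hx _]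

theorem crt_top (htop : TopPrimes) {M : Subgroup Spor.J4} (hx : gX ∈ M) (hv : gV ∈ M) (h37 : 37 ∣ Nat.card M)
    {y : List ℕ} (hy : ∀ k ∈ y, k < 37) (hyM : ev y ∈ M) {c29 c43 : Crt}
    (h29 : c29.ok 29 y = true) (h43 : c43.ok 43 y = true) : M = ⊤ := by
  have key : ∀ {c : Crt} {q : ℕ}, q.Prime → c.ok q y = true → q ∣ Nat.card M := by
    intro c q hq h
    simp only [Crt.ok, Bool.and_eq_true, List.all_eq_true] at h
    obtain ⟨⟨⟨hi, ha⟩, hj⟩, hm⟩ := h
    have hl : (∀ k ∈ c.word y, k < 37) ∧ ev (c.word y) ∈ M := by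
      have hA : ∀ k ∈ [c.i] ++ c.a, k < 37 ∧ pe k ∈ M := by
        intro k hk
        rcases List.mem_append.mp hk with hk | hk
        · rw [List.mem_singleton.mp hk]; exact xLetter_mem hx hv hi
        · exact xLetter_mem hx hv (ha k hk)
      cases hd : c.dbl
      · rw [Crt.word, hd, cond_false, List.append_nil]
        refine ⟨fun k hk => ?_, by rw [ev_append]; exact mul_mem (ev_mem fun k hk => (hA k hk).2) hyM⟩
        rcases List.mem_append.mp hk with hk | hk
        exacts [(hA k hk).1, hy k hk]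
      · rw [Crt.word, hd, cond_true]
        refine ⟨fun k hk => ?_, ?_⟩
        · simp only [List.mem_append] at hk
          rcases hk with (hk | hk) | hk | hk
          exacts [(hA k (List.mem_append.mpr hk)).1, hy k hk, (xLetter_mem hx hv (hj k hk)).1, hy k hk]
        · rw [ev_append, ev_append, ev_append c.j]
          exact mul_mem (mul_mem (ev_mem fun k hk => (hA k hk).2) hyM)
            (mul_mem (ev_mem fun k hk => (xLetter_mem hx hv (hj k hk)).2) hyM)
    exact card_dvd_of_mem hl.2 (dvd_order hl.1 hq hm)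
  exact htop M (key (by norm_num) h29) h37 (key (by norm_num) h43)

/-- The element turning the generator of the cyclic group of order 12 into one of its powers. -/
noncomputable def gN (m : ℕ) : Spor.J4 := ev ([[], [2], [3], [2, 3]].getD m [])

theorem ev_yW1 {m b : ℕ} : ev (yW1 (m, b)) = gC b * gN m := by
  rw [yW1, ev_append, ev_cC, gN]

theorem normalizing_top (htop : TopPrimes) {M : Subgroup Spor.J4} (hx : gX ∈ M) (hv : gV ∈ M)
    (h37 : 37 ∣ Nat.card M) {m b : ℕ} (hm : m < 4) (hb : b < 4) (hne : ¬ (m = 0 ∧ b = 0))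
    (hy : gC b * gN m ∈ M) : M = ⊤ := by
  have ha := crt1_all
  simp only [List.all_eq_true, List.mem_range, Bool.or_eq_true, Bool.and_eq_true, beq_iff_eq,
    List.any_eq_true] at ha
  obtain h | ⟨e, he, heq⟩ := ha m hm b hb
  · exact absurd h hne
  · have hc := crt1_ok
    simp only [List.all_eq_true, Bool.and_eq_true] at hc
    have hl : ∀ m < 4, ∀ b < 4, ∀ k ∈ yW1 (m, b), k < 37 := by decide
    refine crt_top htop hx hv h37 (y := yW1 e.1) ?_ ?_ (hc e he).1 (hc e he).2
    · rw [heq]; exact hl m hm b hb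
    · rw [heq, ev_yW1]; exact hy

theorem gC_eq {b : ℕ} (hb : b < 4) : gE b = gC b := by
  rw [gE, Nat.div_eq_of_lt hb, Nat.mod_eq_of_lt hb, pow_zero, one_mul]

theorem gE_split {a b : ℕ} (hb : b < 4) : gE (a * 4 + b) = gV ^ a * gC b := by
  rw [gE, show (a * 4 + b) / 4 = a by omega, show (a * 4 + b) % 4 = b by omega]

theorem ev_fW {r : ℕ} (hr : r < 165) : ev (fW r) = gV ^ 6 * ((gS r)⁻¹ * gV ^ 6 * gS r) := by
  rw [fW, ev_cons, ev_conj2 hr, base_rels.2.2.2.2.1]

theorem fW_lt {r : ℕ} (hr : r < 165) : ∀ k ∈ fW r, k < 37 := by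
  intro k hk
  rcases List.mem_cons.mp hk with rfl | hk
  · norm_num
  · exact conj_lt.2 r hr k hk

theorem tv_mem {M : Subgroup Spor.J4} (hv : gV ∈ M) {a : ℕ} {g : Spor.J4} :
    (gV ^ a)⁻¹ * g * gV ^ a ∈ M ↔ g ∈ M := by
  rw [Subgroup.mul_mem_cancel_right M (pow_mem hv a), Subgroup.mul_mem_cancel_left M (inv_mem (pow_mem hv a))]

/-- A product of the involution with one of its moved conjugates. -/
theorem conj_prod (i : ℕ) (r : ℕ) (hr : r < 165) :
    gV ^ 6 * gT (r, i) = (gE i)⁻¹ * ev (fW r) * gE i := by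
  have hc : (gE i)⁻¹ * gV ^ 6 = gV ^ 6 * (gE i)⁻¹ := ((gE_comm i).pow_right 6).inv_left.eq
  rw [ev_fW hr, gT]
  show gV ^ 6 * ((gE i)⁻¹ * _ * gE i) = _
  rw [← mul_assoc, ← mul_assoc (gV ^ 6), ← hc]
  group

theorem gT_split {a b : ℕ} (hb : b < 4) (r : ℕ) :
    gT (r, a * 4 + b) = (gV ^ a)⁻¹ * gT (r, b) * gV ^ a := by
  have hc : Commute (gV ^ a) (gC b) := ((gC_comm hb).pow_right a).symm
  rw [gT, gT, gE_split hb, gC_eq hb, hc.eq]
  group

theorem gT_inj (hw : Nat.card Cw ≤ 2661120) {p q : ℕ × ℕ} (hp : p.1 < 165 ∧ p.2 < 48) (hq : q.1 < 165 ∧ q.2 < 48)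
    (h : key2 p = key2 q) : gT p = gT q := by
  have hlist : ∀ {p : ℕ × ℕ}, p.1 < 165 ∧ p.2 < 48 → ∃ p' ∈ ord2, gT p = gT p' ∧ key2 p = key2 p' := by
    intro p hp
    obtain ⟨p', hp', e⟩ := (complete hw).2.2.1 (gS p.1 * gE p.2)
      (mul_mem (mem_cent_iff.mpr (gS_comm hp.1)) (C2304_iff.mp (C48_le (gE_mem _))).1)
    have e' : gT p = gT p' := by rw [← e, gT]; group
    exact ⟨p', hp', e', by rw [key2_eq hp, key2_eq (list_shapes.2.2.2.2.2 p' hp'), e']⟩
  obtain ⟨p', hp', e1, k1⟩ := hlist hp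
  obtain ⟨q', hq', e2, k2⟩ := hlist hq
  obtain ⟨i, rfl⟩ := List.mem_iff_get.mp hp'
  obtain ⟨j, rfl⟩ := List.mem_iff_get.mp hq'
  rw [e1, e2, pairwise_inj ord2_pairwise i j (by rw [← k1, ← k2, h])]

/-- An element of order 3, 5, 7 or 11 inverted by the involution gives everything or an element of even order. -/
theorem inverted_cases (hw : Nat.card Cw ≤ 2661120) (htop : TopPrimes) {M : Subgroup Spor.J4} (hx : gX ∈ M)
    (hv : gV ∈ M) (h37 : 37 ∣ Nat.card M) {p : ℕ × ℕ} (hp : p.1 < 165 ∧ p.2 < 48) {q : ℕ}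
    (hq : q ∈ [3, 5, 7, 11]) (hord : orderOf (gV ^ 6 * gT p) = q) (hM : gV ^ 6 * gT p ∈ M) :
    M = ⊤ ∨ ∃ g ∈ Subgroup.closure ({gV ^ 6 * gT p, (gV ^ 3)⁻¹ * (gV ^ 6 * gT p) * gV ^ 3, gV ^ 4} : Set Spor.J4),
      2 ∣ orderOf g := by
  obtain ⟨r, i⟩ := p
  obtain ⟨hr, hi⟩ := hp
  have hshape := shape_ok
  simp only [shapeOK, Bool.and_eq_true, List.all_eq_true, decide_eq_true_eq] at hshape
  set c := gE i with hc
  set f := gV ^ 6 * gT (r, i) with hf
  have hfe : f = c⁻¹ * ev (fW r) * c := conj_prod i r hr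
  have hr0 : r ≠ 0 := by
    rintro rfl
    have hq1 : 1 < q := by
      simp only [List.mem_cons, List.not_mem_nil, or_false] at hq
      rcases hq with rfl | rfl | rfl | rfl <;> norm_num
    have h1 : ev (fW 0) = 1 := by
      rw [ev_fW (by norm_num), gS, shapes.2.2.1, ev_nil, inv_one, one_mul, mul_one, ← pow_add, gV_pow_mod,
        show (6 + 6) % 12 = 0 from rfl, pow_zero]
    rw [hfe, h1, mul_one, inv_mul_cancel, orderOf_one] at hord
    omega
  have ho := orbit_ok
  simp only [List.all_eq_true, List.mem_range, Bool.or_eq_true, beq_iff_eq] at ho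
  rcases ho r hr with (h | h) | h
  · exact absurd h hr0
  · simp only [covered, Bool.or_eq_true, List.any_eq_true, List.all_eq_true, List.mem_range, beq_iff_eq] at h
    rcases h with ⟨e, he, rfl⟩ | h
    · right
      have hfl := filt_ok
      simp only [List.all_eq_true, filtOK, Bool.and_eq_true, decide_eq_true_eq] at hfl
      obtain ⟨hw4, hmv⟩ := hfl e he
      have hlt : ∀ k ∈ e.2.1.flatMap (genW e.1), k < 37 := by
        intro k hk
        obtain ⟨j, hj, hk⟩ := List.mem_flatMap.mp hk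
        have hj4 := hw4 j hj
        interval_cases j <;>
          simp only [genW, List.getD_cons_zero, List.getD_cons_succ, List.mem_append, List.mem_singleton] at hk
        · exact fW_lt hr k hk
        · rcases hk with (rfl | hk) | rfl
          exacts [by norm_num, fW_lt hr k hk, by norm_num]
        · rw [hk]; norm_num
        · rcases hk with hk | hk <;> exact fW_lt hr k hk
      refine ⟨c⁻¹ * ev (e.2.1.flatMap (genW e.1)) * c, ?_, ?_⟩
      · set S := Subgroup.closure ({f, (gV ^ 3)⁻¹ * f * gV ^ 3, gV ^ 4} : Set Spor.J4) with hS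
        have hgen : ∀ j < 4, c⁻¹ * ev (genW e.1 j) * c ∈ S := by
          intro j hj
          interval_cases j <;> simp only [genW, List.getD_cons_zero, List.getD_cons_succ]
          · rw [← hfe]; exact Subgroup.subset_closure (Or.inl rfl)
          · have e20 : pe 20 = (gV ^ 3)⁻¹ := by
              rw [show (20 : ℕ) = 11 + 9 from rfl, base_rels.2.2.2.1 9 (by norm_num) (by norm_num), eq_comm]
              apply inv_eq_of_mul_eq_one_right
              rw [← pow_add]
              exact base_rels.2.2.1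
            have e14 : pe 14 = gV ^ 3 := base_rels.2.2.2.1 3 (by norm_num) (by norm_num)
            rw [ev_append, ev_append, ev_single, ev_single, e20, e14]
            have h3 : Commute c (gV ^ 3) := (gE_comm i).pow_right 3
            have : c⁻¹ * ((gV ^ 3)⁻¹ * ev (fW e.1) * gV ^ 3) * c = (gV ^ 3)⁻¹ * f * gV ^ 3 := by
              rw [hfe, ← mul_assoc, ← mul_assoc c⁻¹, h3.inv_inv.eq, mul_assoc _ (gV ^ 3) c, ← h3.eq]
              group
            rw [this]
            exact Subgroup.subset_closure (Or.inr (Or.inl rfl))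
          · have e15 : pe 15 = gV ^ 4 := base_rels.2.2.2.1 4 (by norm_num) (by norm_num)
            rw [ev_single, e15, mul_assoc, ← ((gE_comm i).pow_right 4).eq, inv_mul_cancel_left]
            exact Subgroup.subset_closure (Or.inr (Or.inr rfl))
          · rw [ev_append, show c⁻¹ * (ev (fW e.1) * ev (fW e.1)) * c = f * f by rw [hfe]; group]
            exact mul_mem (Subgroup.subset_closure (Or.inl rfl)) (Subgroup.subset_closure (Or.inl rfl))
        have hall : ∀ l : List ℕ, (∀ j ∈ l, j < 4) → c⁻¹ * ev (l.flatMap (genW e.1)) * c ∈ S := by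
          intro l
          induction l with
          | nil => intro _; simp [ev_nil]
          | cons j l ih =>
            intro hl
            rw [List.flatMap_cons, ev_append, show c⁻¹ * (ev (genW e.1 j) * ev (l.flatMap (genW e.1))) * c =
              (c⁻¹ * ev (genW e.1 j) * c) * (c⁻¹ * ev (l.flatMap (genW e.1)) * c) by group]
            exact mul_mem (hgen j (hl j List.mem_cons_self)) (ih fun k hk => hl k (List.mem_cons_of_mem _ hk))
        exact hall _ hw4
      · have : orderOf (c⁻¹ * ev (e.2.1.flatMap (genW e.1)) * c) = orderOf (ev (e.2.1.flatMap (genW e.1))) := by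
          have h' := (MulAut.conj c⁻¹).orderOf_eq (ev (e.2.1.flatMap (genW e.1)))
          rwa [MulAut.conj_apply, inv_inv] at h'
        rw [this]
        exact dvd_order hlt Nat.prime_two hmv
    · left
      obtain ⟨a, b, hb, rfl⟩ : ∃ a b, b < 4 ∧ i = a * 4 + b := ⟨i / 4, i % 4, Nat.mod_lt _ (by norm_num), by omega⟩
      obtain ⟨e, he, heq⟩ := h b hb
      have hco := cover_ok
      simp only [List.all_eq_true, coverOK, Bool.and_eq_true, decide_eq_true_eq, List.any_eq_true, beq_iff_eq] at hco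
      obtain ⟨⟨⟨ha2, hb2⟩, c2, hc2, hc2e⟩, hkey⟩ := hco e he
      obtain ⟨⟨r', b'⟩, r2, a2, b2⟩ := e
      simp only [Prod.mk.injEq] at heq
      obtain ⟨rfl, rfl⟩ := heq
      dsimp only at ha2 hb2 hc2e hkey
      have hr2 : r2 < 165 := (hshape.1.1.1.1.2 _ he).2.2
      have hT : gT (r', b') = gT (r2, a2 * 4 + b2) :=
        gT_inj hw ⟨hr, by omega⟩ ⟨hr2, by omega⟩ hkey
      have h6 : ∀ k, (gV ^ k)⁻¹ * gV ^ 6 * gV ^ k = gV ^ 6 := fun k => by
        rw [mul_assoc, ← pow_add, Nat.add_comm, pow_add, inv_mul_cancel_left]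
      have hy : ev (yW2 (r2, b2)) ∈ M := by
        have e1 : ev (yW2 (r2, b2)) = gV ^ 6 * gT (r2, b2) := by
          rw [conj_prod b2 r2 hr2, gC_eq hb2, yW2, ev_append, ev_append, ev_dC hb2, ev_cC]
        have e2 : f = (gV ^ a)⁻¹ * ((gV ^ a2)⁻¹ * (gV ^ 6 * gT (r2, b2)) * gV ^ a2) * gV ^ a := by
          rw [hf, gT_split hb, hT, gT_split hb2]
          conv_lhs => rw [← h6 a]
          conv_lhs => rw [← h6 a2]
          group
        rw [e1, ← tv_mem hv (a := a2), ← tv_mem hv (a := a), ← e2]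
        exact hM
      have hl : ∀ k ∈ yW2 (r2, b2), k < 37 := by
        intro k hk
        simp only [yW2, List.mem_append] at hk
        rcases hk with (hk | hk) | hk
        · cases b2 with
          | zero => exact absurd hk List.not_mem_nil
          | succ n => rw [List.mem_singleton.mp hk]; omega
        · exact fW_lt hr2 k hk
        · cases b2 with
          | zero => exact absurd hk List.not_mem_nil
          | succ n => rw [List.mem_singleton.mp hk]; omega
      have hc := crt2_ok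
      simp only [List.all_eq_true, Bool.and_eq_true] at hc
      refine crt_top htop hx hv h37 (y := yW2 c2.1) ?_ ?_ (hc c2 hc2).1 (hc c2 hc2).2
      · rw [hc2e]; exact hl
      · rw [hc2e]; exact hy
  · exfalso
    simp only [nonOrd, List.all_eq_true, bne_iff_ne] at h
    apply h q hq
    have h1 : orderOf (ev (fW r)) = q := by
      rw [← hord, hfe]
      have h' := (MulAut.conj c⁻¹).orderOf_eq (ev (fW r))
      rw [MulAut.conj_apply, inv_inv] at h'
      exact h'.symm
    show rep (fW r) q W.1 = W.1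
    rw [rep_eq _ (fW_lt hr), ← h1, pow_orderOf_eq_one, img_one]

/-- An inverted element of order 3 in the centraliser of order 2304 gives everything. -/
theorem cube_cases (hw : Nat.card Cw ≤ 2661120) (htop : TopPrimes) {M : Subgroup Spor.J4} (hx : gX ∈ M)
    (hv : gV ∈ M) (h37 : 37 ∣ Nat.card M) {f : Spor.J4} (hf : f ∈ C2304) (hfM : f ∈ M) (h1 : f ≠ 1)
    (h3 : f ^ 3 = 1) (hinv : gV ^ 3 * f * (gV ^ 3)⁻¹ = f⁻¹) : M = ⊤ := by
  obtain ⟨hC, hR, -, -, -⟩ := complete hw
  obtain ⟨c1, hc1, r, hr, i, hi, rfl⟩ := hR f hf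
  obtain ⟨j, hj, hje⟩ := hC (gE i * c1) (mul_mem (gE_mem i) hc1)
  set f := c1 * (gR r * gE i) with hfd
  set g := gR r * gE j with hg
  have hgf : g = c1⁻¹ * f * c1 := by rw [hg, ← hje, hfd]; group
  have hu : Commute c1 (gV ^ 3) := (mem_cent_iff.mp hc1).pow_right 3
  have hev : ev (rep1.getD r [] ++ cW j) = g := by rw [ev_append, ev_cW hj, hg]; rfl
  have hwlt : ∀ k ∈ rep1.getD r [] ++ cW j, k < 37 := by
    intro k hk
    rcases List.mem_append.mp hk with hk | hk
    exacts [conj_lt.1 r hr k (List.mem_append_right _ hk), (lt_of_cW j hj).1 k hk]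
  have hcu := cube_ok
  simp only [List.all_eq_true, List.mem_range, cubeOK, Bool.or_eq_true, Bool.and_eq_true, beq_iff_eq,
    List.any_eq_true, bne_iff_ne] at hcu
  rcases hcu r hr j hj with (⟨rfl, rfl⟩ | hne) | h
  · exfalso
    apply h1
    have hg1 : g = 1 := by
      rw [hg, gR, shapes.2.2.2, ev_nil, one_mul, gE, gC]
      simp
    rw [hgf] at hg1
    calc f = c1 * (c1⁻¹ * f * c1) * c1⁻¹ := by group
      _ = 1 := by rw [hg1, mul_one, mul_inv_cancel]
  · exfalso
    have hW : (img (1 : Spor.J4) W).1 = w0 := by rw [img_one]; rfl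
    rcases hne with hne | hne
    · apply hne
      rw [show w0 = W.1 from rfl, act_eq _ (fun k hk => by
        rw [List.mem_append, List.mem_append] at hk
        rcases hk with (hk | hk) | hk <;> exact hwlt k hk) W, ev_append, ev_append, hev,
        hgf, show c1⁻¹ * f * c1 * (c1⁻¹ * f * c1) * (c1⁻¹ * f * c1) = c1⁻¹ * f ^ 3 * c1 by rw [pow_succ, pow_two]; group, h3, mul_one,
        inv_mul_cancel, img_one]
    · apply hne
      have e14 : pe 14 = gV ^ 3 := base_rels.2.2.2.1 3 (by norm_num) (by norm_num)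
      have e20 : pe 20 = (gV ^ 3)⁻¹ := by
        rw [show (20 : ℕ) = 11 + 9 from rfl, base_rels.2.2.2.1 9 (by norm_num) (by norm_num), eq_comm]
        apply inv_eq_of_mul_eq_one_right
        rw [← pow_add]
        exact base_rels.2.2.1
      have hlt : ∀ k ∈ [14] ++ (rep1.getD r [] ++ cW j) ++ [20] ++ (rep1.getD r [] ++ cW j), k < 37 := by
        intro k hk
        simp only [List.mem_append, List.mem_singleton] at hk
        have := hwlt k
        simp only [List.mem_append] at this
        rcases hk with ((rfl | hk) | rfl) | hk <;> first | exact this hk | norm_num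
      rw [show w0 = W.1 from rfl, act_eq _ hlt W, ev_append, ev_append, ev_append, hev, ev_single, ev_single,
        e14, e20, hgf]
      have : gV ^ 3 * (c1⁻¹ * f * c1) * (gV ^ 3)⁻¹ * (c1⁻¹ * f * c1) = 1 := by
        rw [← mul_assoc (gV ^ 3), ← mul_assoc (gV ^ 3), ← hu.inv_left.eq,
          mul_assoc (c1⁻¹ * gV ^ 3 * f) c1, (hu.inv_right).eq]
        rw [show c1⁻¹ * gV ^ 3 * f * ((gV ^ 3)⁻¹ * c1) * (c1⁻¹ * f * c1) = c1⁻¹ * (gV ^ 3 * f * (gV ^ 3)⁻¹) * f * c1 by
          group, hinv]
        group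
      rw [this, img_one]
  · obtain ⟨i1, hi1, hi1e⟩ := hC c1 hc1
    obtain ⟨e, he, heq⟩ := h (i1 % 4) (Nat.mod_lt _ (by norm_num))
    have hc := crt3_ok
    simp only [List.all_eq_true, Bool.and_eq_true] at hc
    have hb : i1 % 4 < 4 := Nat.mod_lt _ (by norm_num)
    refine crt_top htop hx hv h37 (y := yW3 e.1) ?_ ?_ (hc e he).1 (hc e he).2
    · rw [heq]
      intro k hk
      simp only [yW3, List.mem_append] at hk
      rcases hk with (hk | hk) | hk
      · cases hh : i1 % 4 with
        | zero => rw [hh] at hk; exact absurd hk List.not_mem_nil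
        | succ n => rw [hh] at hk; rw [List.mem_singleton.mp hk]; omega
      · exact hwlt k (List.mem_append.mpr hk)
      · cases hh : i1 % 4 with
        | zero => rw [hh] at hk; exact absurd hk List.not_mem_nil
        | succ n => rw [hh] at hk; rw [List.mem_singleton.mp hk]; omega
    · rw [heq, yW3, ev_append, ev_append, hev, ev_cC, ev_dC hb, ← tv_mem hv (a := 12 - i1 / 4)]
      have hva : (gV ^ (12 - i1 / 4))⁻¹ = gV ^ (i1 / 4) := by
        apply inv_eq_of_mul_eq_one_right
        rw [← pow_add, Nat.sub_add_cancel (by omega)]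
        exact base_rels.2.2.1
      have hva' : gV ^ (12 - i1 / 4) = (gV ^ (i1 / 4))⁻¹ := by rw [← hva, inv_inv]
      rw [hva, hva', show gV ^ (i1 / 4) * (gC (i1 % 4) * g * (gC (i1 % 4))⁻¹) * (gV ^ (i1 / 4))⁻¹ =
        gE i1 * g * (gE i1)⁻¹ by rw [gE]; group, ← hi1e, hgf,
        show c1 * (c1⁻¹ * f * c1) * c1⁻¹ = f by group]
      exact hfM

end Cfsg.Lib.J4Maximal.P37
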