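import Cfsg.Agent.J4Eleven.Main

/-!
A subgroup of order 121 has a distinguished element of order 11.
-/

set_option autoImplicit false
set_option maxRecDepth 8000
set_option synthInstance.maxSize 4000
set_option linter.style.haveILetI false

namespace Cfsg.Lib.J4Maximal.P37

open Cfsg Cfsg.Lib.J4Cert Cfsg.Lib.J4Eleven Subgroup

attribute [local irreducible] mB mPow J4Eleven.em mU mX mZ mG mEl trPar

theorem el_conj_eX {a b c : ℕ} (ha : a < 11) (hb : b < 11) (h0 : a + b ≠ 0) : IsConj (hJ4.el a b c) eX := by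
  have hflat : ∀ a < 11, ∀ b < 11, a + b ≠ 0 → IsConj eU (hJ4.el a b 0) := fun a ha b hb h =>
    (reach_conj 10 (by norm_num) _ (reach_ok a ha b hb h)).2.2
  have hUX : IsConj eU eX := by
    have := hflat 0 (by norm_num) 1 (by norm_num) (by norm_num)
    rwa [← hJ4.x_eq] at this
  exact (el_conj_flat ha hb h0 c).symm.trans ((hflat a ha b hb h0).symm.trans hUX)

/-- An element of the Sylow subgroup conjugate to the central one is central. -/
theorem conj_central {y : Spor.J4} (hy : y ∈ hJ4.U) (hc : IsConj eZ y) : y ∈ zpowers eZ := by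
  obtain ⟨a, b, c, rfl⟩ := hy
  rw [hJ4.el_mod] at hc ⊢
  by_cases h0 : a % 11 + b % 11 = 0
  · rw [Nat.eq_zero_of_add_eq_zero_right h0, Nat.eq_zero_of_add_eq_zero_left h0, ← hJ4.z_eq]
    exact npow_mem_zpowers _ _
  · exact absurd ((el_conj_eX (Nat.mod_lt _ (by norm_num)) (Nat.mod_lt _ (by norm_num)) h0).symm.trans hc.symm)
      two_classes.2.2.1

theorem exists_char_eleven {P : Subgroup Spor.J4} (hP : Nat.card P = 121) :
    ∃ a ∈ P, orderOf a = 11 ∧ IsConj eZ a ∧
      ∀ g ∈ normalizer (P : Set Spor.J4), g * a * g⁻¹ ∈ zpowers a := by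
  haveI := finite_J4
  haveI : Fact (Nat.Prime 11) := ⟨by norm_num⟩
  obtain ⟨T, hT⟩ := (IsPGroup.of_card (p := 11) (n := 2) (by rw [hP]; norm_num) : IsPGroup 11 P).exists_le_sylow
  obtain ⟨S, hS⟩ := exists_sylow
  obtain ⟨k, hk⟩ := MulAction.exists_smul_eq Spor.J4 T S
  set f := (MulAut.conj k).toMonoidHom with hf
  have hfP : P.map f ≤ hJ4.U := by
    rw [← hS, ← hk, Sylow.coe_subgroup_smul]
    rintro _ ⟨y, hy, rfl⟩
    exact Subgroup.smul_mem_pointwise_smul y (MulAut.conj k) _ (hT hy)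
  have hzo : orderOf eZ = 11 := two_classes.2.1
  have hzP : eZ ∈ P.map f := by
    by_contra hz
    have hd : P.map f ⊓ zpowers eZ = ⊥ := by
      refine (Subgroup.eq_bot_iff_forall _).mpr fun y hy => ?_
      by_contra hy1
      obtain ⟨n, hn⟩ := mem_zpowers_iff.mp hy.2
      have hyo : orderOf y = 11 := by
        refine ((Nat.dvd_prime (by norm_num)).mp ?_).resolve_left fun h => hy1 (orderOf_eq_one_iff.mp h)
        rw [← hn, ← hzo]
        exact orderOf_dvd_of_pow_eq_one (by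
          rw [← zpow_natCast, ← zpow_mul, mul_comm, zpow_mul, zpow_natCast, pow_orderOf_eq_one, one_zpow])
      have : zpowers y = zpowers eZ := eq_of_le_of_card_ge (zpowers_le.mpr hy.2)
        (by rw [Nat.card_zpowers, Nat.card_zpowers, hyo, hzo])
      exact hz (zpowers_le.mpr hy.1 (this ▸ mem_zpowers eZ))
    -- then the Sylow subgroup would be abelian
    have hcomm : ∀ a ∈ P.map f, ∀ b ∈ P.map f, a * b = b * a := by
      intro a ha b hb
      have hc : Nat.card (P.map f) = 11 ^ 2 := by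
        rw [card_map_of_injective (MulAut.conj k).injective, hP]; norm_num
      exact congrArg Subtype.val ((IsPGroup.isMulCommutative_of_card_eq_prime_sq hc).is_comm.comm
        (⟨a, ha⟩ : P.map f) ⟨b, hb⟩)
    have hall : ∀ y ∈ hJ4.U, ∃ a ∈ P.map f, ∃ n : ℕ, y = a * eZ ^ n := by
      intro y hy
      let g : P.map f × zpowers eZ → hJ4.U := fun x => ⟨(x.1 : Spor.J4) * x.2,
        mul_mem (hfP x.1.2) (zpowers_le.mpr hJ4.z_mem x.2.2)⟩
      have hi : Function.Injective g := fun a b h =>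
        Subgroup.mul_injective_of_disjoint (disjoint_iff.mpr hd) (congrArg Subtype.val h)
      have hb : Function.Bijective g := (Nat.bijective_iff_injective_and_card g).mpr ⟨hi, by
        rw [Nat.card_prod, hJ4.card_U, card_map_of_injective (MulAut.conj k).injective, hP, Nat.card_zpowers, hzo]⟩
      obtain ⟨⟨a, n⟩, e⟩ := hb.2 ⟨y, hy⟩
      obtain ⟨m, hm : eZ ^ m = (n : Spor.J4)⟩ := (isOfFinOrder_of_finite eZ).mem_powers_iff_mem_zpowers.mpr n.2
      exact ⟨a, a.2, m, by rw [hm]; exact (congrArg Subtype.val e).symm⟩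
    have hzc : ∀ (n : ℕ), ∀ y ∈ hJ4.U, Commute (eZ ^ n) y := by
      rintro n _ ⟨a, b, c, rfl⟩
      exact hJ4.z_comm_el n a b c
    obtain ⟨a, ha, n, e1⟩ := hall eX (by rw [show eX = hJ4.x from rfl, hJ4.x_eq]; exact hJ4.el_mem _ _ _)
    obtain ⟨b, hb, m, e2⟩ := hall eU (by rw [show eU = hJ4.u from rfl, hJ4.u_eq]; exact hJ4.el_mem _ _ _)
    have h := heis_checks.2.2.2.2.2.2
    have hab : eX * eU = eU * eX := by
      rw [e1, e2, mul_assoc a, ← mul_assoc (eZ ^ n), (hzc n b (hfP hb)).eq, mul_assoc b, ← pow_add, ← mul_assoc,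
        hcomm a ha b hb, mul_assoc b (eZ ^ m), ← mul_assoc (eZ ^ m), (hzc m a (hfP ha)).eq, mul_assoc a, ← pow_add,
        Nat.add_comm, mul_assoc]
    rw [hab, left_eq_mul] at h
    have := orderOf_dvd_of_pow_eq_one h
    rw [hzo] at this
    norm_num at this
  obtain ⟨a, ha, hfa⟩ := hzP
  refine ⟨a, ha, ?_, (isConj_iff.mpr ⟨k, hfa⟩ : IsConj a eZ).symm, fun g hg => ?_⟩
  · rw [← hzo, ← hfa]
    exact ((MulAut.conj k).orderOf_eq a).symm
  · have hga : g * a * g⁻¹ ∈ P := (mem_normalizer_iff.mp hg a).mp ha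
    have hmem : f (g * a * g⁻¹) ∈ hJ4.U := hfP ⟨_, hga, rfl⟩
    have hcj : IsConj eZ (f (g * a * g⁻¹)) := by
      rw [← hfa]
      exact f.map_isConj (isConj_iff.mpr ⟨g, rfl⟩)
    obtain ⟨n, hn⟩ := mem_zpowers_iff.mp (conj_central hmem hcj)
    refine mem_zpowers_iff.mpr ⟨n, (MulAut.conj k).injective ?_⟩
    show f (a ^ n) = f (g * a * g⁻¹)
    rw [map_zpow, hfa, hn]

end Cfsg.Lib.J4Maximal.P37
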