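import Cfsg.Agent.J4Maximal.P37.Odd
import Cfsg.Agent.J4Maximal.P37.Order121
import Cfsg.Agent.JankoFour.ClassNumber.Facts

/-!
A proper subgroup over the normaliser of a subgroup of order 37 equals it.
-/

set_option autoImplicit false
set_option maxRecDepth 8000
set_option synthInstance.maxSize 4000
set_option linter.style.haveILetI false

namespace Cfsg.Lib.J4Maximal.P37

open Cfsg Cfsg.Lib.J4Cert Subgroup Cfsg.Lib.JankoFour.ClassNumber

attribute [local irreducible] rep1 rep1i rep2 rep2i w0 key0 key1 key2 ptabs act rep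

theorem gX_order : orderOf gX = 37 :=
  haveI : Fact (Nat.Prime 37) := ⟨by norm_num⟩
  orderOf_eq_prime base_rels.1 base_rels.2.1

theorem gV_mem_normalizer : gV ∈ normalizer (zpowers gX : Set Spor.J4) := by
  haveI := finite_J4
  have hg : gV⁻¹ ∈ normalizer (zpowers gX : Set Spor.J4) := by
    have hle : (zpowers gX).map (MulAut.conj gV⁻¹).toMonoidHom ≤ zpowers gX := by
      rw [MonoidHom.map_zpowers, zpowers_le]
      show gV⁻¹ * gX * gV⁻¹⁻¹ ∈ zpowers gX
      rw [inv_inv, mul_assoc, base_rels.2.2.2.2.2, inv_mul_cancel_left]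
      exact npow_mem_zpowers _ _
    have he := eq_of_le_of_card_ge hle
      (le_of_eq (card_map_of_injective (f := (MulAut.conj gV⁻¹).toMonoidHom) (MulAut.conj gV⁻¹).injective).symm)
    rw [mem_normalizer_iff]
    intro z
    refine ⟨fun hz => hle ⟨z, hz, rfl⟩, fun hz => ?_⟩
    rw [← he] at hz
    obtain ⟨t, ht, e⟩ := hz
    rwa [← (MulAut.conj gV⁻¹).injective e]
  simpa using inv_mem hg

/-- The possible orders of an overgroup without elements of order 3 off the cyclic group. -/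
theorem order_cases : ∀ a ≤ 21, ∀ b ∈ [0, 2],
    2 ^ a * 11 ^ b * 3 * 37 % 444 = 0 → (2 ^ a * 11 ^ b * 3 * 37 / 444) % 37 = 1 → (a = 2 ∧ b = 0) ∨ b = 2 := by
  decide +kernel

theorem overgroup_eq (F : Facts Spor.J4) (htop : TopPrimes)
    (hN : Nat.card (normalizer (zpowers gX : Set Spor.J4)) = 444) {M : Subgroup Spor.J4}
    (hlt : normalizer (zpowers gX : Set Spor.J4) < M) : M = ⊤ := by
  haveI := finite_J4
  by_contra hM
  haveI f3 : Fact (Nat.Prime 3) := ⟨Nat.prime_three⟩
  haveI f37 : Fact (Nat.Prime 37) := ⟨by norm_num⟩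
  have hx : gX ∈ M := hlt.le (le_normalizer (mem_zpowers gX))
  have hv : gV ∈ M := hlt.le gV_mem_normalizer
  have h37 : 37 ∣ Nat.card M := card_dvd_of_mem hx (dvd_of_eq gX_order.symm)
  have hw3 : orderOf (gV ^ 4) = 3 := by rw [gV_pow_order]; rfl
  have hw : Nat.card Cw ≤ 2661120 := (F.inv.choose_spec.2.2.2.1 _ hw3).1
  have hcent : ∀ {y : Spor.J4}, y ∈ M → Commute y (gV ^ 4) → y ∈ zpowers gV := fun hy h =>
    centralizer_in hw htop hM hx hv h37 hy h
  set w := gV ^ 4 with hwd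
  set W3 := zpowers w with hW3
  have hW : Nat.card W3 = 3 ^ 1 := by rw [hW3, Nat.card_zpowers, hw3, pow_one]
  have hWM : W3 ≤ M := zpowers_le.mpr (pow_mem hv 4)
  -- inside M the normaliser of the group of order 3 centralises it
  have hnc : ∀ g ∈ M, g ∈ normalizer (W3 : Set Spor.J4) → g ∈ zpowers gV := by
    intro g hg hgn
    have hgv : g * gV * g⁻¹ ∈ zpowers gV := by
      refine hcent (mul_mem (mul_mem hg hv) (inv_mem hg)) ?_
      have hwg : g⁻¹ * w * g ∈ W3 := by
        simpa using (mem_normalizer_iff.mp (inv_mem hgn) w).mp (mem_zpowers w)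
      obtain ⟨i, hi⟩ := mem_zpowers_iff.mp hwg
      have hc : Commute gV (g⁻¹ * w * g) := hi ▸ ((Commute.refl gV).pow_right 4).zpow_right i
      have := hc.map (MulAut.conj g).toMonoidHom
      simpa [mul_assoc] using this
    exact normalizer_gV hw htop hM hx hv h37 hg (mem_normalizer_of_conj hgv)
  have h9 : ¬ 3 ^ 2 ∣ Nat.card M := by
    intro hd
    obtain ⟨S, hS⟩ := (IsPGroup.of_card (p := 3) (n := 1) ((Nat.card_congr (subgroupOfEquivOfLe hWM).toEquiv).trans hW) :
      IsPGroup 3 (W3.subgroupOf M)).exists_le_sylow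
    have h8 : 9 ≤ Nat.card (S : Subgroup M) := by
      rw [S.card_eq_multiplicity]
      have := (Nat.prime_three.pow_dvd_iff_le_factorization (Nat.card_pos (α := M)).ne').mp hd
      exact le_trans (by norm_num) (Nat.pow_le_pow_right (by norm_num) this)
    haveI : Group.IsNilpotent S := S.2.isNilpotent
    have hlt' : (W3.subgroupOf M).subgroupOf (S : Subgroup M) < ⊤ := lt_top_iff_ne_top.mpr fun e => by
      have hc := congrArg (fun H : Subgroup (S : Subgroup M) => Nat.card H) e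
      simp only [card_top, Nat.card_congr (subgroupOfEquivOfLe hS).toEquiv,
        Nat.card_congr (subgroupOfEquivOfLe hWM).toEquiv, hW] at hc
      omega
    obtain ⟨g, hg, hgQ⟩ := SetLike.exists_of_lt (Group.normalizerCondition_of_isNilpotent _ hlt')
    have hgn : ((g : M) : Spor.J4) ∈ normalizer (W3 : Set Spor.J4) := by
      rw [mem_normalizer_iff]
      intro z
      have key := mem_normalizer_iff.mp hg
      constructor
      · intro hz
        have h1 : (⟨⟨z, hWM hz⟩, hS hz⟩ : (S : Subgroup M)) ∈ (W3.subgroupOf M).subgroupOf (S : Subgroup M) := hz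
        exact (key _).mp h1
      · intro hz
        have hzA : z ∈ M := by
          have := mul_mem (mul_mem (inv_mem (g : M).2) (hWM hz)) (g : M).2
          rwa [show ((g : M) : Spor.J4)⁻¹ * (((g : M) : Spor.J4) * z * ((g : M) : Spor.J4)⁻¹) * ((g : M) : Spor.J4) = z
            by group] at this
        have hzS : (⟨z, hzA⟩ : M) ∈ (S : Subgroup M) := by
          have h1 : (g : M) * ⟨z, hzA⟩ * (g : M)⁻¹ ∈ (S : Subgroup M) := hS hz
          have := mul_mem (mul_mem (inv_mem g.2) h1) g.2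
          simpa [mul_assoc] using this
        exact (key ⟨⟨z, hzA⟩, hzS⟩).mpr hz
    obtain ⟨j, hj⟩ := (isOfFinOrder_of_finite gV).mem_powers_iff_mem_zpowers.mpr (hnc _ (g : M).2 hgn)
    simp only at hj
    obtain ⟨k, hk⟩ := S.2 g
    refine hgQ (?_ : ((g : M) : Spor.J4) ∈ W3)
    have hk' : orderOf (((g : M) : Spor.J4)) ∣ 3 ^ k := by
      rw [orderOf_dvd_iff_pow_eq_one]
      simpa using congrArg (fun z : (S : Subgroup M) => ((z : M) : Spor.J4)) hk
    rw [← hj] at hk' ⊢
    exact odd_in_zpowers (npow_mem_zpowers _ _) fun h2 =>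
      absurd (Nat.Prime.dvd_of_dvd_pow Nat.prime_two (h2.trans hk')) (by norm_num)
  obtain ⟨K, hKM, hMK, hKc, hKco⟩ := exists_complement_in hWM hW h9 fun g hg hgn => by
    rw [mem_centralizer_iff]
    intro z hz
    obtain ⟨i, rfl⟩ := mem_zpowers_iff.mp hz
    obtain ⟨j, rfl⟩ := mem_zpowers_iff.mp (hnc g hg hgn)
    exact (((Commute.refl gV).pow_left 4).zpow_left i).zpow_right j |>.eq
  have hK3 : ¬ 3 ∣ Nat.card K := fun h => h9 (by
    rw [← hKc, pow_succ', mul_comm (Nat.card K), mul_comm 3]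
    exact Nat.mul_dvd_mul_left _ h)
  have hwK : w ∈ normalizer (K : Set Spor.J4) := hMK (pow_mem hv 4)
  -- the centraliser of w in K has order dividing 4
  have hCK : ∀ {g : Spor.J4}, g ∈ K → Commute g w → orderOf g ∣ 4 := by
    intro g hg hc
    obtain ⟨j, hj : gV ^ j = g⟩ := (isOfFinOrder_of_finite gV).mem_powers_iff_mem_zpowers.mpr (hcent (hKM hg) hc)
    have hd : orderOf g ∣ 12 := by rw [← gV_order, ← hj]; exact orderOf_pow_dvd j
    have hnd : ¬ 3 ∣ orderOf g := fun h => hK3 (card_dvd_of_mem hg h)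
    exact (Nat.Coprime.dvd_mul_right ((Nat.Prime.coprime_iff_not_dvd Nat.prime_three).mpr hnd).symm).mp
      (show orderOf g ∣ 4 * 3 from hd)
  -- invariant Sylow subgroups of odd order
  have hinv : ∀ q : ℕ, q.Prime → q ≠ 2 → ∃ P : Subgroup Spor.J4, P ≤ K ∧
      Nat.card P = q ^ (Nat.card K).factorization q ∧ w ∈ normalizer (P : Set Spor.J4) ∧ Nat.card P % 3 = 1 := by
    intro q hq hq2
    haveI := Fact.mk hq
    obtain ⟨P, hPK, hPc, hwP⟩ := exists_invariant (q := q) hw3 hwK hK3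
    refine ⟨P, hPK, hPc, hwP, ?_⟩
    have h1 : P ⊓ centralizer ({w} : Set Spor.J4) = ⊥ := by
      refine (eq_bot_iff_forall _).mpr fun g hg => ?_
      obtain ⟨h1, h2⟩ := mem_inf.mp hg
      have hd := hCK (hPK h1) (mem_centralizer_singleton_iff.mp h2)
      have hd' : orderOf g ∣ q ^ (Nat.card K).factorization q := by
        rw [← hPc]
        have := orderOf_dvd_natCard (⟨g, h1⟩ : P)
        rwa [Subgroup.orderOf_mk] at this
      have hco : (q ^ (Nat.card K).factorization q).Coprime 4 :=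
        (Nat.Coprime.pow_left _ ((Nat.coprime_primes hq Nat.prime_two).mpr hq2)).pow_right 2
      exact orderOf_eq_one_iff.mp (Nat.dvd_one.mp (hco ▸ Nat.dvd_gcd hd' hd))
    rw [card_modEq_fixed hw3 hwP, h1, card_bot]
  have hcardJ := Cfsg.Lib.J4Cert.card_J4.1
  have hKpos : Nat.card K ≠ 0 := Nat.card_pos.ne'
  have hKdvd : Nat.card K ∣ 2 ^ 21 * 3 ^ 3 * 5 * 7 * 11 ^ 3 * 23 * 29 * 31 * 37 * 43 := by
    rw [show 2 ^ 21 * 3 ^ 3 * 5 * 7 * 11 ^ 3 * 23 * 29 * 31 * 37 * 43 = 86775571046077562880 by norm_num, ← hcardJ]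
    exact card_subgroup_dvd_card K
  have hfac1 : ∀ q ∈ [5, 7, 23, 29, 31, 43], q ∣ Nat.card K → (Nat.card K).factorization q = 1 := by
    intro q hq hd
    have hp : q.Prime := by
      simp only [List.mem_cons, List.not_mem_nil, or_false] at hq
      rcases hq with rfl | rfl | rfl | rfl | rfl | rfl <;> norm_num
    refine le_antisymm ?_ (hp.factorization_pos_of_dvd hKpos hd)
    by_contra h
    have h2 := ((hp.pow_dvd_iff_le_factorization hKpos).mpr (show 2 ≤ _ by omega)).trans hKdvd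
    revert h2
    clear hd hp h
    simp only [List.mem_cons, List.not_mem_nil, or_false] at hq
    rcases hq with rfl | rfl | rfl | rfl | rfl | rfl <;> norm_num
  have h5 : ∀ q ∈ [5, 23, 29], ¬ q ∣ Nat.card K := by
    intro q hq hd
    have hq' : q ∈ [5, 7, 23, 29, 31, 43] := by
      simp only [List.mem_cons, List.not_mem_nil, or_false] at hq ⊢; tauto
    have hp : q.Prime := by
      simp only [List.mem_cons, List.not_mem_nil, or_false] at hq
      rcases hq with rfl | rfl | rfl <;> norm_num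
    obtain ⟨P, -, hPc, -, hP3⟩ := hinv q hp (by rintro rfl; simp at hq)
    rw [hPc, hfac1 q hq' hd, pow_one] at hP3
    simp only [List.mem_cons, List.not_mem_nil, or_false] at hq
    rcases hq with rfl | rfl | rfl <;> norm_num at hP3
  have hgen : ∀ q : ℕ, q.Prime → q ≠ 2 → (Nat.card K).factorization q = 1 → ∃ a ∈ K, orderOf a = q ∧
      ∃ k : ℕ, w * a * w⁻¹ = a ^ k ∧ zpowers a ≤ K := by
    intro q hq hq2 h1
    haveI := Fact.mk hq
    obtain ⟨P, hPK, hPc, hwP, -⟩ := hinv q hq hq2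
    rw [h1, pow_one] at hPc
    obtain ⟨⟨a, ha⟩, hao⟩ := exists_prime_orderOf_dvd_card' (G := P) q (dvd_of_eq hPc.symm)
    rw [Subgroup.orderOf_mk] at hao
    have hz : zpowers a = P := eq_of_le_of_card_ge (zpowers_le.mpr ha) (by rw [hPc, Nat.card_zpowers, hao])
    have hm : w * a * w⁻¹ ∈ zpowers a := hz ▸ (mem_normalizer_iff.mp hwP a).mp ha
    obtain ⟨k, hk⟩ := (isOfFinOrder_of_finite a).mem_powers_iff_mem_zpowers.mpr hm
    exact ⟨a, hPK ha, hao, k, hk.symm, hz ▸ hPK⟩
  have h31 : ∀ x ∈ [(31, 10), (43, 14)], ¬ x.1 ∣ Nat.card K := by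
    intro x hx' hd
    have hx2 : x ∈ [(23, 22), (29, 28), (31, 10), (37, 12), (43, 14)] ∧ x.1 ∈ [5, 7, 23, 29, 31, 43] ∧ x.1.Prime ∧
        x.1 ≠ 2 ∧ (3 : ℕ).Coprime x.2 ∧ ¬ x.1 ∣ 4 := by
      simp only [List.mem_cons, List.not_mem_nil, or_false] at hx'
      rcases hx' with rfl | rfl <;> norm_num
    obtain ⟨h1, h2, hp, h3, hco, h4⟩ := hx2
    obtain ⟨a, haK, hao, k, hk, -⟩ := hgen x.1 hp h3 (hfac1 _ h2 hd)
    have hc : Commute w a := commute_of_congr hp hao hk ((F.big x.1 x.2 a h1 hao).2 w k hk) (hw3 ▸ hco)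
    exact h4 (hao ▸ hCK haK hc.symm)
  have hxK : gX ∈ K := hKco gX hx (by rw [gX_order]; decide)
  set U := zpowers gX with hU
  have hNle : normalizer (U : Set Spor.J4) ≤ M := hlt.le
  have hUM : U ≤ M := le_normalizer.trans hNle
  have hp37 : (37 : ℕ) ^ (Nat.card Spor.J4).factorization 37 = 37 := by
    rw [hcardJ]
    have h : (86775571046077562880 : ℕ).factorization 37 = 1 := by
      rw [← Nat.multiplicity_eq_factorization (by norm_num) (by norm_num)]
      exact multiplicity_eq_of_dvd_of_not_dvd (by decide +kernel) (by decide +kernel)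
    rw [h, pow_one]
  obtain ⟨S, hS⟩ : ∃ S : Sylow 37 Spor.J4, (S : Subgroup Spor.J4) = U :=
    ⟨Sylow.ofCard U (by rw [hU, Nat.card_zpowers, gX_order, hp37]), Sylow.coe_ofCard _ _⟩
  have hcount : ∀ H : Subgroup Spor.J4, U ≤ H →
      (Nat.card H / Nat.card ↥(H ⊓ normalizer (U : Set Spor.J4))) % 37 = 1 := by
    intro H hH
    have h := mod_q (q := 37) H
    rw [sylow_count H S (hS ▸ hH), hS] at h
    exact h
  have h7 : ¬ 7 ∣ Nat.card K := by
    intro hd
    haveI : Fact (Nat.Prime 7) := ⟨by norm_num⟩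
    obtain ⟨a, haK, hao, -, -, haK'⟩ := hgen 7 (by norm_num) (by norm_num) (hfac1 7 (by simp) hd)
    obtain ⟨K7, h7le, h7n, h7c, h7co⟩ := exists_complement_in haK' (q := 7) (n := 1)
      (by rw [Nat.card_zpowers, hao, pow_one]) (fun h => by
        have h2 := h.trans hKdvd
        norm_num at h2) fun g hg hgn => by
      rw [cent_zpowers, mem_centralizer_singleton_iff]
      obtain ⟨k, hk⟩ := (isOfFinOrder_of_finite a).mem_powers_iff_mem_zpowers.mpr
        ((mem_normalizer_iff.mp hgn a).mp (mem_zpowers a))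
      refine (commute_of_congr (e := 3) (by norm_num) hao hk.symm (F.sevenN a g hao k hk.symm) ?_).eq
      exact ((Nat.Prime.coprime_iff_not_dvd Nat.prime_three).mpr fun h => hK3 (card_dvd_of_mem hg h)).symm
    have hU7 : U ≤ K7 := zpowers_le.mpr (h7co gX hxK (by rw [gX_order]; decide))
    have hNeq : K ⊓ normalizer (U : Set Spor.J4) ≤ K7 := fun g hg => by
      obtain ⟨hgK, hgN⟩ := mem_inf.mp hg
      refine h7co g hgK (Nat.Coprime.coprime_dvd_left ?_ (by norm_num : Nat.Coprime 444 7))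
      rw [← hN]
      have := orderOf_dvd_natCard (⟨g, hgN⟩ : normalizer (U : Set Spor.J4))
      rwa [Subgroup.orderOf_mk] at this
    have e : K7 ⊓ normalizer (U : Set Spor.J4) = K ⊓ normalizer (U : Set Spor.J4) :=
      le_antisymm (inf_le_inf_right _ h7le) (le_inf hNeq inf_le_right)
    have hK1 := hcount K (hU7.trans h7le)
    have hK7 := hcount K7 hU7
    rw [e] at hK7
    have hdiv : Nat.card ↥(K ⊓ normalizer (U : Set Spor.J4)) ∣ Nat.card K7 := e ▸ card_dvd_of_le inf_le_left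
    obtain ⟨n, hn⟩ := hdiv
    rw [hn, Nat.mul_div_cancel_left _ Nat.card_pos] at hK7
    rw [← h7c, pow_one, hn, mul_assoc, Nat.mul_div_cancel_left _ Nat.card_pos] at hK1
    omega
  -- the order of K
  have hKform : ∃ a ≤ 21, ∃ b ≤ 3, Nat.card K = 2 ^ a * 11 ^ b * 37 := by
    obtain ⟨k, hk⟩ : 37 ∣ Nat.card K := card_dvd_of_mem hxK (dvd_of_eq gX_order.symm)
    have hk1 : k ∣ 2 ^ 21 * 11 ^ 3 * (3 ^ 3 * 5 * 7 * 23 * 29 * 31 * 43) := by
      refine Nat.dvd_of_mul_dvd_mul_left (show 0 < 37 by norm_num) ?_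
      rw [← hk, show 37 * (2 ^ 21 * 11 ^ 3 * (3 ^ 3 * 5 * 7 * 23 * 29 * 31 * 43)) =
        2 ^ 21 * 3 ^ 3 * 5 * 7 * 11 ^ 3 * 23 * 29 * 31 * 37 * 43 by norm_num]
      exact hKdvd
    have hco : k.Coprime (3 ^ 3 * 5 * 7 * 23 * 29 * 31 * 43) := by
      have hnd : ∀ q : ℕ, q.Prime → ¬ q ∣ Nat.card K → k.Coprime q := fun q hq h =>
        ((Nat.Prime.coprime_iff_not_dvd hq).mpr fun h' => h (hk ▸ Dvd.dvd.mul_left h' 37)).symm
      refine Nat.Coprime.mul_right (Nat.Coprime.mul_right (Nat.Coprime.mul_right (Nat.Coprime.mul_right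
        (Nat.Coprime.mul_right (Nat.Coprime.mul_right ((hnd 3 Nat.prime_three hK3).pow_right 3) ?_) ?_) ?_) ?_) ?_) ?_
      exacts [hnd 5 (by norm_num) (h5 5 (by simp)), hnd 7 (by norm_num) h7, hnd 23 (by norm_num) (h5 23 (by simp)),
        hnd 29 (by norm_num) (h5 29 (by simp)), hnd 31 (by norm_num) (h31 (31, 10) (by simp)),
        hnd 43 (by norm_num) (h31 (43, 14) (by simp))]
    obtain ⟨d, e, hd, he, rfl⟩ := Nat.dvd_mul.mp (hco.dvd_of_dvd_mul_right hk1)
    obtain ⟨a, ha, rfl⟩ := (Nat.dvd_prime_pow Nat.prime_two).mp hd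
    obtain ⟨b, hb, rfl⟩ := (Nat.dvd_prime_pow (by norm_num)).mp he
    exact ⟨a, ha, b, hb, by rw [hk]; ring⟩
  obtain ⟨a, ha, b, hb, hKab⟩ := hKform
  have hfb : (Nat.card K).factorization 11 = b := by
    rw [hKab, Nat.factorization_mul (by positivity) (by norm_num), Nat.factorization_mul (by positivity) (by positivity),
      Nat.factorization_pow, Nat.factorization_pow]
    simp only [Finsupp.add_apply, Finsupp.smul_apply, smul_eq_mul]
    rw [Nat.Prime.factorization_self (by norm_num),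
      Nat.factorization_eq_zero_of_not_dvd (by norm_num : ¬ 11 ∣ 2),
      Nat.factorization_eq_zero_of_not_dvd (by norm_num : ¬ 11 ∣ 37)]
    ring
  obtain ⟨P, hPK, hPc, hwP, hP3⟩ := hinv 11 (by norm_num) (by norm_num)
  rw [hfb] at hPc
  have hb' : b ∈ [0, 2] := by
    rw [hPc] at hP3
    interval_cases b <;> simp at hP3 ⊢
  have hMc : Nat.card M = 2 ^ a * 11 ^ b * 3 * 37 := by rw [← hKc, hKab]; ring
  have h444 : 444 ∣ Nat.card M := hN ▸ card_dvd_of_le hNle
  rcases order_cases a ha b hb' (by rw [← hMc]; exact Nat.dvd_iff_mod_eq_zero.mp h444)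
      (by
        have h := hcount M hUM
        rwa [inf_eq_right.mpr hNle, hN, hMc] at h) with ⟨rfl, rfl⟩ | rfl
  · refine hlt.ne (eq_of_le_of_card_ge hNle ?_)
    rw [hMc, hN]
    norm_num
  · obtain ⟨c, hcP, hco, -, hcn⟩ := exists_char_eleven (show Nat.card P = 121 by rw [hPc]; norm_num)
    obtain ⟨k, hk⟩ := (isOfFinOrder_of_finite c).mem_powers_iff_mem_zpowers.mpr (hcn w hwP)
    simp only at hk
    have hk3 : c ^ k ^ 3 = c ^ 1 := by
      have hp : ∀ i : ℕ, w ^ i * c * (w ^ i)⁻¹ = c ^ k ^ i := by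
        intro i
        induction i with
        | zero => simp
        | succ i ih =>
          rw [pow_succ' w, show w * w ^ i * c * (w * w ^ i)⁻¹ = w * (w ^ i * c * (w ^ i)⁻¹) * w⁻¹ by group, ih,
            ← conj_pow, ← hk, ← pow_mul, pow_succ']
      rw [← hp 3, show w ^ 3 = 1 by rw [← hw3, pow_orderOf_eq_one], one_mul, inv_one, mul_one, pow_one]
    rw [pow_eq_pow_iff_modEq, hco] at hk3
    have hk1 : k % 11 = 1 := by
      have key : ∀ r < 11, r ^ 3 % 11 = 1 → r = 1 := by decide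
      refine key _ (Nat.mod_lt _ (by norm_num)) ?_
      rw [← Nat.pow_mod]
      exact hk3
    have hcw : Commute c w := by
      have : w * c * w⁻¹ = c := by
        rw [← hk, ← pow_mod_orderOf, hco, hk1, pow_one]
      exact (mul_inv_eq_iff_eq_mul.mp this).symm
    have := hCK (hPK hcP) hcw
    rw [hco] at this
    norm_num at this

end Cfsg.Lib.J4Maximal.P37
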