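import Cfsg.Agent.J4Maximal.P37.El

/-!
The relations among the elements used for the prime 37.
-/

set_option autoImplicit false
set_option maxRecDepth 8000
set_option synthInstance.maxSize 4000

namespace Cfsg.Lib.J4Maximal.P37

open Cfsg Cfsg.Lib.J4Cert Cfsg.Lib.J4Eleven Subgroup

attribute [local irreducible] mB mPow nd pnode ptabs ptab tabs4 vt leq pm' rep1 rep1i rep2 rep2i

/-- The element of order 37. -/
noncomputable def gX : Spor.J4 := pe 1
/-- The element of order 12 normalising it. -/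
noncomputable def gV : Spor.J4 := pe 12

theorem base_rels : gX ^ 37 = 1 ∧ gX ≠ 1 ∧ gV ^ 12 = 1 ∧ (∀ a, 1 ≤ a → a ≤ 11 → pe (11 + a) = gV ^ a) ∧
    pe 0 = gV ^ 6 ∧ gX * gV = gV * gX ^ 8 := by
  have h := base_ok
  simp only [baseOK, Bool.and_eq_true, List.all_eq_true, List.mem_range, Bool.not_eq_true', beq_iff_eq] at h
  obtain ⟨⟨⟨⟨⟨h1, h2⟩, h3⟩, h4⟩, h5⟩, h6⟩ := h
  have hp : ∀ a, 1 ≤ a → a ≤ 11 → pe (11 + a) = gV ^ a := by
    intro a ha1
    induction a, ha1 using Nat.le_induction with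
    | base => intro _; rw [pow_one]; rfl
    | succ a ha1 ih =>
      intro ha
      rw [pow_succ, ← ih (by omega)]
      obtain ⟨b, rfl⟩ : ∃ b, a = b + 1 := ⟨a - 1, by omega⟩
      have := eq_of_leq ((pe_ok (k := 12 + b) (by omega)).mul (pe_ok (k := 12) (by norm_num)))
        (pe_ok (k := 13 + b) (by omega)) (h3 b (by omega))
      rw [show 11 + (b + 1 + 1) = 13 + b by omega, show 11 + (b + 1) = 12 + b by omega, ← this]
      rfl
  have hv : gV ^ 12 = 1 := by
    rw [pow_succ, ← hp 11 (by norm_num) le_rfl]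
    exact eq_of_leq ((pe_ok (k := 22) (by norm_num)).mul (pe_ok (k := 12) (by norm_num))) MOK.one h4
  refine ⟨eq_of_leq (npow_ok (pe_ok (k := 1) (by norm_num)) 37) MOK.one h1, ne_one_of (pe_ok (k := 1) (by norm_num)) h2,
    hv, hp, ?_, eq_of_leq ((pe_ok (k := 1) (by norm_num)).mul (pe_ok (k := 12) (by norm_num)))
      ((pe_ok (k := 12) (by norm_num)).mul (npow_ok (pe_ok (k := 1) (by norm_num)) 8)) h6⟩
  rw [← hp 6 (by norm_num) (by norm_num)]
  unfold pe
  rw [h5]

theorem xpow_rels : ∀ e ∈ [(29, 1), (30, 2), (31, 3), (32, 4), (33, 5), (34, 7), (35, 9), (36, 11)],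
    pe e.1 = gX ^ e.2 := by
  have h := xPow_ok
  simp only [xPowOK, List.all_eq_true] at h
  intro e he
  refine eq_of_leq (pe_ok ?_) (npow_ok (pe_ok (k := 1) (by norm_num)) e.2) (h e he)
  simp only [List.mem_cons, List.not_mem_nil, or_false] at he
  rcases he with rfl | rfl | rfl | rfl | rfl | rfl | rfl | rfl <;> norm_num

theorem cent_rels : (∀ i < 8, Commute (pe (4 + i)) (gV ^ 4) ∧ pe (4 + i) * pe (4 + (i ^^^ 1)) = 1) ∧
    (∀ i < 6, Commute (pe (4 + i)) (gV ^ 6)) ∧
    (∀ b < 3, Commute (pe (23 + b)) gV ∧ pe (23 + b) * pe (26 + b) = 1) ∧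
    gV * pe 2 = pe 2 * gV ^ 5 ∧ gV * pe 3 = pe 3 * gV ^ 11 := by
  obtain ⟨-, -, -, hp, h0, -⟩ := base_rels
  have h := cent_ok
  simp only [centOK, Bool.and_eq_true, List.all_eq_true, List.mem_range] at h
  obtain ⟨⟨⟨⟨h1, h2⟩, h3⟩, h4⟩, h5⟩ := h
  have hx : ∀ i < 8, 4 + (i ^^^ 1) < 37 := by decide
  refine ⟨fun i hi => ⟨?_, eq_of_leq ((pe_ok (k := 4 + i) (by omega)).mul (pe_ok (hx i hi))) MOK.one (h1 i hi).2⟩,
    fun i hi => ?_, fun b hb => ⟨eq_of_leq ((pe_ok (k := 23 + b) (by omega)).mul (pe_ok (k := 12) (by norm_num)))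
      ((pe_ok (k := 12) (by norm_num)).mul (pe_ok (k := 23 + b) (by omega))) (h3 b hb).1,
      eq_of_leq ((pe_ok (k := 23 + b) (by omega)).mul (pe_ok (k := 26 + b) (by omega))) MOK.one (h3 b hb).2⟩, ?_, ?_⟩
  · rw [← hp 4 (by norm_num) (by norm_num)]
    exact eq_of_leq ((pe_ok (k := 4 + i) (by omega)).mul (pe_ok (k := 15) (by norm_num)))
      ((pe_ok (k := 15) (by norm_num)).mul (pe_ok (k := 4 + i) (by omega))) (h1 i hi).1
  · rw [← h0]
    exact eq_of_leq ((pe_ok (k := 4 + i) (by omega)).mul (pe_ok (k := 0) (by norm_num)))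
      ((pe_ok (k := 0) (by norm_num)).mul (pe_ok (k := 4 + i) (by omega))) (h2 i hi)
  · rw [← hp 5 (by norm_num) (by norm_num)]
    exact eq_of_leq ((pe_ok (k := 12) (by norm_num)).mul (pe_ok (k := 2) (by norm_num)))
      ((pe_ok (k := 2) (by norm_num)).mul (pe_ok (k := 16) (by norm_num))) h4
  · rw [← hp 11 (by norm_num) le_rfl]
    exact eq_of_leq ((pe_ok (k := 12) (by norm_num)).mul (pe_ok (k := 3) (by norm_num)))
      ((pe_ok (k := 3) (by norm_num)).mul (pe_ok (k := 22) (by norm_num))) h5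

/-- The coset part of an element of the centraliser of order 48. -/
noncomputable def gC (b : ℕ) : Spor.J4 := if b = 0 then 1 else pe (22 + b)

theorem gC_comm {b : ℕ} (hb : b < 4) : Commute (gC b) gV := by
  unfold gC
  split_ifs with h
  · exact Commute.one_left _
  · have := (cent_rels.2.2.1 (b - 1) (by omega)).1
    rwa [show 23 + (b - 1) = 22 + b by omega] at this

theorem ev_cC {b : ℕ} : ev (bif Nat.beq b 0 then [] else [22 + b]) = gC b := by
  unfold gC
  cases b with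
  | zero => rfl
  | succ b => rw [if_neg (Nat.succ_ne_zero b)]; exact ev_single _

theorem ev_dC {b : ℕ} (hb : b < 4) : ev (bif Nat.beq b 0 then [] else [25 + b]) = (gC b)⁻¹ := by
  unfold gC
  cases b with
  | zero => rw [if_pos rfl, inv_one]; rfl
  | succ b =>
    rw [if_neg (Nat.succ_ne_zero b)]
    show ev [25 + (b + 1)] = _
    rw [ev_single, eq_comm]
    apply inv_eq_of_mul_eq_one_right
    have := (cent_rels.2.2.1 b (by omega)).2
    rwa [show 23 + b = 22 + (b + 1) by omega, show 26 + b = 25 + (b + 1) by omega] at this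

theorem ev_vA {a : ℕ} (ha : a < 12) : ev (bif Nat.beq a 0 then [] else [11 + a]) = gV ^ a := by
  cases a with
  | zero => rw [pow_zero]; rfl
  | succ a => exact (ev_single _).trans (base_rels.2.2.2.1 _ (by omega) (by omega))

/-- An element of the centraliser of order 48. -/
noncomputable def gE (i : ℕ) : Spor.J4 := gV ^ (i / 4) * gC (i % 4)

theorem ev_cW {i : ℕ} (hi : i < 48) : ev (cW i) = gE i := by
  rw [cW, ev_append, ev_vA (by omega), ev_cC, gE]

theorem ev_dW {i : ℕ} (hi : i < 48) : ev (dW i) = (gE i)⁻¹ := by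
  rw [dW, ev_append, ev_dC (Nat.mod_lt _ (by norm_num)), gE, mul_inv_rev]
  congr 1
  rcases Nat.eq_zero_or_pos (i / 4) with h | h
  · rw [h, pow_zero, inv_one]; rfl
  · have hne : Nat.beq (i / 4) 0 = false := by
      cases hb : Nat.beq (i / 4) 0
      · rfl
      · exact absurd (Nat.eq_of_beq_eq_true hb) h.ne'
    rw [hne, cond_false, ev_single, base_rels.2.2.2.1 _ (by omega) (by omega), eq_comm]
    apply inv_eq_of_mul_eq_one_right
    rw [← pow_add, Nat.add_sub_cancel' (by omega : i / 4 ≤ 12)]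
    exact base_rels.2.2.1

theorem gE_comm (i : ℕ) : Commute (gE i) gV :=
  ((Commute.refl gV).pow_left _).mul_left (gC_comm (Nat.mod_lt _ (by norm_num)))

/-- The first representative. -/
noncomputable def gR (r : ℕ) : Spor.J4 := ev (rep1.getD r [])
/-- The second representative. -/
noncomputable def gS (r : ℕ) : Spor.J4 := ev (rep2.getD r [])

theorem ev_inv_word : ∀ {l : List ℕ}, (∀ k ∈ l, 4 ≤ k ∧ k < 12) →
    ev (l.reverse.map fun k => 4 + ((k - 4) ^^^ 1)) = (ev l)⁻¹
  | [], _ => by simp [ev_nil]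
  | k :: l, h => by
    obtain ⟨h4, h12⟩ := h k List.mem_cons_self
    rw [List.reverse_cons, List.map_append, ev_append, ev_inv_word fun j hj => h j (List.mem_cons_of_mem _ hj),
      ev_cons, mul_inv_rev]
    congr 1
    show ev [4 + ((k - 4) ^^^ 1)] = _
    rw [ev_single, eq_comm]
    apply inv_eq_of_mul_eq_one_right
    have := (cent_rels.1 (k - 4) (by omega)).2
    rwa [Nat.add_sub_cancel' h4] at this

theorem ev_comm_of_letters {z : Spor.J4} : ∀ {l : List ℕ}, (∀ k ∈ l, Commute (pe k) z) → Commute (ev l) z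
  | [], _ => by rw [ev_nil]; exact Commute.one_left _
  | k :: l, h => by
    rw [ev_cons]
    exact (h k List.mem_cons_self).mul_left (ev_comm_of_letters fun j hj => h j (List.mem_cons_of_mem _ hj))

theorem shapes : (∀ r < 20, (∀ k ∈ rep1.getD r [], 4 ≤ k ∧ k < 10) ∧
      rep1i.getD r [] = (rep1.getD r []).reverse.map fun k => 4 + ((k - 4) ^^^ 1)) ∧
    (∀ r < 165, (∀ k ∈ rep2.getD r [], 4 ≤ k ∧ k < 12) ∧
      rep2i.getD r [] = (rep2.getD r []).reverse.map fun k => 4 + ((k - 4) ^^^ 1)) ∧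
    rep2.getD 0 [] = [] ∧ rep1.getD 0 [] = [] := by
  have h := shape_ok
  simp only [shapeOK, Bool.and_eq_true, List.all_eq_true, List.mem_range, decide_eq_true_eq, beq_iff_eq] at h
  exact ⟨h.1.1.1.1.1.1.1.1.2, h.1.1.1.1.1.1.1.2, h.1.1.1.1.1.1.2, h.1.1.1.1.1.2⟩

theorem gR_comm {r : ℕ} (hr : r < 20) : Commute (gR r) (gV ^ 4) ∧ Commute (gR r) (gV ^ 6) := by
  constructor <;> refine ev_comm_of_letters fun k hk => ?_
  all_goals
    obtain ⟨h4, h10⟩ := (shapes.1 r hr).1 k hk
    rw [← Nat.add_sub_cancel' h4]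
  · exact (cent_rels.1 _ (by omega)).1
  · exact cent_rels.2.1 _ (by omega)

theorem gS_comm {r : ℕ} (hr : r < 165) : Commute (gS r) (gV ^ 4) := by
  refine ev_comm_of_letters fun k hk => ?_
  obtain ⟨h4, h12⟩ := (shapes.2.1 r hr).1 k hk
  rw [← Nat.add_sub_cancel' h4]
  exact (cent_rels.1 _ (by omega)).1

theorem lt_of_cW (i : ℕ) (hi : i < 48) : (∀ k ∈ cW i, k < 37) ∧ ∀ k ∈ dW i, k < 37 := by
  have : ∀ i < 48, ((cW i).all fun k => decide (k < 37)) && ((dW i).all fun k => decide (k < 37)) = true := by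
    decide +kernel
  simpa [Bool.and_eq_true, List.all_eq_true] using this i hi

theorem ev_conj1 {r : ℕ} (hr : r < 20) : ev (conj1 r) = (gR r)⁻¹ * gV * gR r := by
  rw [conj1, ev_append, ev_append, ev_single, (shapes.1 r hr).2,
    ev_inv_word fun k hk => ⟨((shapes.1 r hr).1 k hk).1, by have := ((shapes.1 r hr).1 k hk).2; omega⟩]
  rfl

theorem ev_conj2 {r : ℕ} (hr : r < 165) : ev (conj2 r) = (gS r)⁻¹ * gV ^ 6 * gS r := by
  rw [conj2, ev_append, ev_append, ev_single, (shapes.2.1 r hr).2, ev_inv_word (shapes.2.1 r hr).1,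
    base_rels.2.2.2.2.1]
  rfl

theorem conj_lt : (∀ r < 20, ∀ k ∈ conj1 r ++ rep1.getD r [], k < 37) ∧ ∀ r < 165, ∀ k ∈ conj2 r, k < 37 := by
  have hx : ∀ j, 4 ≤ j → j < 12 → 4 + ((j - 4) ^^^ 1) < 37 := by
    intro j h1 h2
    interval_cases j <;> decide
  refine ⟨fun r hr k hk => ?_, fun r hr k hk => ?_⟩
  · simp only [conj1, List.mem_append, List.mem_singleton, (shapes.1 r hr).2, List.mem_map, List.mem_reverse] at hk
    rcases hk with ((⟨j, hj, rfl⟩ | rfl) | hk) | hk
    · exact hx j ((shapes.1 r hr).1 j hj).1 (by have := ((shapes.1 r hr).1 j hj).2; omega)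
    · norm_num
    all_goals (have := ((shapes.1 r hr).1 k hk).2; omega)
  · simp only [conj2, List.mem_append, List.mem_singleton, (shapes.2.1 r hr).2, List.mem_map, List.mem_reverse] at hk
    rcases hk with (⟨j, hj, rfl⟩ | rfl) | hk
    · exact hx j ((shapes.2.1 r hr).1 j hj).1 ((shapes.2.1 r hr).1 j hj).2
    · norm_num
    · have := ((shapes.2.1 r hr).1 k hk).2; omega

end Cfsg.Lib.J4Maximal.P37
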