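import Cfsg.Agent.J4Cert.Mat
import Cfsg.Agent.J4Cert.CentDef
import Cfsg.Agent.J4Maximal.Data.Tables
import Cfsg.Agent.J4Maximal.Data.Plan

/-!
The nodes are matrices of elements of the presented group.
-/

set_option autoImplicit false
set_option maxRecDepth 8000
set_option Elab.async false

namespace Cfsg.Lib.J4Maximal.P37

open Cfsg.Lib.J4Cert

/-- The matrices by index. -/
def nd (k : ℕ) : List ℕ := ndTab.get k

theorem nd_letters : ∀ l < 4, nd l = letM l := by decide +kernel

theorem prog0_ok : progOK nd 4 ndProg0 = true := by decide +kernel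
theorem prog1_ok : progOK nd 84 ndProg1 = true := by decide +kernel
theorem prog2_ok : progOK nd 164 ndProg2 = true := by decide +kernel
theorem prog3_ok : progOK nd 244 ndProg3 = true := by decide +kernel
theorem prog4_ok : progOK nd 324 ndProg4 = true := by decide +kernel
theorem prog5_ok : progOK nd 404 ndProg5 = true := by decide +kernel
theorem prog6_ok : progOK nd 484 ndProg6 = true := by decide +kernel

theorem nd_mem : ∀ j < 522, ∃ g, MOK g (nd j) := by
  have h0 : ∀ j < 4, ∃ g, MOK g (nd j) := fun j hj => ⟨letG j, nd_letters j hj ▸ letM_ok j⟩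
  have h1 : ∀ j < 84, ∃ g, MOK g (nd j) := progOK_sound nd_letters ndProg0 4 prog0_ok h0
  have h2 : ∀ j < 164, ∃ g, MOK g (nd j) := progOK_sound nd_letters ndProg1 84 prog1_ok h1
  have h3 : ∀ j < 244, ∃ g, MOK g (nd j) := progOK_sound nd_letters ndProg2 164 prog2_ok h2
  have h4 : ∀ j < 324, ∃ g, MOK g (nd j) := progOK_sound nd_letters ndProg3 244 prog3_ok h3
  have h5 : ∀ j < 404, ∃ g, MOK g (nd j) := progOK_sound nd_letters ndProg4 324 prog4_ok h4
  have h6 : ∀ j < 484, ∃ g, MOK g (nd j) := progOK_sound nd_letters ndProg5 404 prog5_ok h5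
  have h7 : ∀ j < 522, ∃ g, MOK g (nd j) := progOK_sound nd_letters ndProg6 484 prog6_ok h6
  exact h7

end Cfsg.Lib.J4Maximal.P37
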