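import Cfsg.Agent.J4Maximal.P37.Excl
import Cfsg.Agent.J4Maximal.Transfer
import Cfsg.Agent.J4Maximal.Arith

/-!
Inside a proper overgroup the centraliser of the element of order 3 is cyclic of order 12.
-/

set_option autoImplicit false
set_option maxRecDepth 8000
set_option synthInstance.maxSize 4000
set_option linter.style.haveILetI false

namespace Cfsg.Lib.J4Maximal.P37

open Cfsg Cfsg.Lib.J4Cert Subgroup

attribute [local irreducible] rep1 rep1i rep2 rep2i w0 key0 key1 key2 ptabs act rep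

theorem gE_injective {i j : ℕ} (hi : i ∈ ord0) (hj : j ∈ ord0) (h : gE i = gE j) : i = j := by
  obtain ⟨a, rfl⟩ := List.mem_iff_get.mp hi
  obtain ⟨b, rfl⟩ := List.mem_iff_get.mp hj
  rw [pairwise_inj (incr_bounds key0 _ _ _ key0_ok).2.2 a b (by
    rw [key0_eq (list_shapes.2.1 _ (List.get_mem _ a)), key0_eq (list_shapes.2.1 _ (List.get_mem _ b)), h])]

theorem gV_order : orderOf gV = 12 := by
  have hmem : ∀ a < 12, a * 4 ∈ ord0 := by decide +kernel
  have hv : ∀ a < 12, gE (a * 4) = gV ^ a := fun a _ => by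
    rw [← Nat.add_zero (a * 4), gE_split (b := 0) (by norm_num), gC, if_pos rfl, mul_one]
  have h12 : orderOf gV ∣ 12 := orderOf_dvd_of_pow_eq_one base_rels.2.2.1
  by_contra hne
  have hlt : orderOf gV < 12 := lt_of_le_of_ne (Nat.le_of_dvd (by norm_num) h12) hne
  haveI := finite_J4
  have hpos := orderOf_pos gV
  have e : gE (orderOf gV * 4) = gE (0 * 4) := by
    rw [hv _ hlt, hv 0 (by norm_num), pow_orderOf_eq_one, pow_zero]
  have := gE_injective (hmem _ hlt) (hmem 0 (by norm_num)) e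
  omega

theorem gV_pow_order (j : ℕ) : orderOf (gV ^ j) = 12 / Nat.gcd 12 j := by
  haveI := finite_J4
  rw [orderOf_pow, gV_order]

/-- An odd element of the cyclic group lies in the subgroup of order 3. -/
theorem odd_in_zpowers {g : Spor.J4} (hg : g ∈ zpowers gV) (h : ¬ 2 ∣ orderOf g) : g ∈ zpowers (gV ^ 4) := by
  haveI := finite_J4
  obtain ⟨j, hj : gV ^ j = g⟩ := (isOfFinOrder_of_finite gV).mem_powers_iff_mem_zpowers.mpr hg
  subst hj
  rw [gV_pow_mod j] at h ⊢
  have hlt := Nat.mod_lt j (show 12 > 0 by norm_num)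
  rw [gV_pow_order] at h
  generalize j % 12 = k at h hlt ⊢
  have key : ∀ k < 12, ¬ 2 ∣ 12 / Nat.gcd 12 k → k % 4 = 0 := by decide
  rw [show k = 4 * (k / 4) by have := key k hlt h; omega, pow_mul]
  exact npow_mem_zpowers _ _

/-- An element with a commuting element of order 12 in its normalised cyclic subgroup. -/
theorem conj_gV_pow {y : Spor.J4} (hy : y ∈ normalizer (zpowers gV : Set Spor.J4)) :
    ∃ m < 4, y⁻¹ * gV * y = gV ^ [1, 5, 11, 7].getD m 0 := by
  haveI := finite_J4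
  have hmem : y⁻¹ * gV * y ∈ zpowers gV := by
    simpa using (mem_normalizer_iff.mp (inv_mem hy) gV).mp (mem_zpowers gV)
  obtain ⟨j, hj : gV ^ j = y⁻¹ * gV * y⟩ := (isOfFinOrder_of_finite gV).mem_powers_iff_mem_zpowers.mpr hmem
  have ho : orderOf (gV ^ j) = 12 := by
    rw [hj]
    have := (MulAut.conj y⁻¹).orderOf_eq gV
    rwa [MulAut.conj_apply, inv_inv, gV_order] at this
  rw [gV_pow_mod, gV_pow_order] at ho
  have key : ∀ k < 12, 12 / Nat.gcd 12 k = 12 → ∃ m < 4, [1, 5, 11, 7].getD m 0 = k := by decide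
  obtain ⟨m, hm, e⟩ := key _ (Nat.mod_lt _ (by norm_num)) ho
  exact ⟨m, hm, by rw [e, ← gV_pow_mod, hj]⟩

theorem gN_conj : ∀ m < 4, (gN m)⁻¹ * gV * gN m = gV ^ [1, 5, 11, 7].getD m 0 := by
  obtain ⟨-, -, -, h5, h11⟩ := cent_rels
  intro m hm
  have e5 : (pe 2)⁻¹ * gV * pe 2 = gV ^ 5 := by rw [mul_assoc, h5, inv_mul_cancel_left]
  have e11 : (pe 3)⁻¹ * gV * pe 3 = gV ^ 11 := by rw [mul_assoc, h11, inv_mul_cancel_left]
  interval_cases m <;> simp only [gN, List.getD_cons_zero, List.getD_cons_succ]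
  · rw [ev_nil, inv_one, one_mul, mul_one, pow_one]
  · rw [ev_single, e5]
  · rw [ev_single, e11]
  · rw [ev_cons, ev_single, mul_inv_rev,
      show (pe 3)⁻¹ * (pe 2)⁻¹ * gV * (pe 2 * pe 3) = (pe 3)⁻¹ * ((pe 2)⁻¹ * gV * pe 2) * ((pe 3)⁻¹)⁻¹ by group,
      e5, ← conj_pow, inv_inv, e11, ← pow_mul, gV_pow_mod]

variable {M : Subgroup Spor.J4}

/-- The normaliser of the cyclic group of order 12 in a proper overgroup. -/
theorem normalizer_gV (hw : Nat.card Cw ≤ 2661120) (htop : TopPrimes) (hM : M ≠ ⊤) (hx : gX ∈ M) (hv : gV ∈ M)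
    (h37 : 37 ∣ Nat.card M) {y : Spor.J4} (hyM : y ∈ M) (hy : y ∈ normalizer (zpowers gV : Set Spor.J4)) :
    y ∈ zpowers gV := by
  obtain ⟨m, hm, e⟩ := conj_gV_pow hy
  have hc : y * (gN m)⁻¹ ∈ C48 := by
    rw [mem_cent_iff, Commute, SemiconjBy]
    calc y * (gN m)⁻¹ * gV = y * ((gN m)⁻¹ * gV * gN m) * (gN m)⁻¹ := by group
      _ = y * (y⁻¹ * gV * y) * (gN m)⁻¹ := by rw [e, gN_conj m hm]
      _ = gV * (y * (gN m)⁻¹) := by group
  obtain ⟨i, hi, hie⟩ := (complete hw).1 _ hc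
  obtain ⟨a, b, hb, rfl⟩ : ∃ a b, b < 4 ∧ i = a * 4 + b := ⟨i / 4, i % 4, Nat.mod_lt _ (by norm_num), by omega⟩
  have hye : y = gV ^ a * (gC b * gN m) := by
    rw [← mul_assoc, ← gE_split hb, ← hie, inv_mul_cancel_right]
  by_cases h0 : m = 0 ∧ b = 0
  · obtain ⟨rfl, rfl⟩ := h0
    rw [hye, gC, if_pos rfl, gN]
    simp only [List.getD_cons_zero, ev_nil, mul_one]
    exact npow_mem_zpowers _ _
  · refine absurd (normalizing_top htop hx hv h37 hm hb h0 ?_) hM
    have := mul_mem (inv_mem (pow_mem hv a)) hyM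
    rwa [hye, inv_mul_cancel_left] at this

theorem gV_eq : gV = gV ^ 4 * (gV ^ 3)⁻¹ := by
  rw [eq_mul_inv_iff_mul_eq, ← pow_succ']

/-- An element commuting with the element of order 4 and in the centraliser of the element of order 3. -/
theorem comm_gV {y : Spor.J4} (h4 : Commute y (gV ^ 4)) (h3 : Commute y (gV ^ 3)) : Commute y gV := by
  rw [gV_eq]
  exact h4.mul_right h3.inv_right

theorem mem_normalizer_of_conj {y : Spor.J4} (h : y * gV * y⁻¹ ∈ zpowers gV) :
    y ∈ normalizer (zpowers gV : Set Spor.J4) := by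
  haveI := finite_J4
  have hle : (zpowers gV).map (MulAut.conj y).toMonoidHom ≤ zpowers gV := by
    rw [MonoidHom.map_zpowers, zpowers_le]
    exact h
  have he := eq_of_le_of_card_ge hle
    (le_of_eq (card_map_of_injective (f := (MulAut.conj y).toMonoidHom) (MulAut.conj y).injective).symm)
  rw [mem_normalizer_iff]
  intro z
  refine ⟨fun hz => hle ⟨z, hz, rfl⟩, fun hz => ?_⟩
  rw [← he] at hz
  obtain ⟨t, ht, e⟩ := hz
  rwa [← (MulAut.conj y).injective e]

/-- The centraliser of the element of order 3 in a proper overgroup is the cyclic group of order 12. -/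
theorem centralizer_in (hw : Nat.card Cw ≤ 2661120) (htop : TopPrimes) (hM : M ≠ ⊤) (hx : gX ∈ M) (hv : gV ∈ M)
    (h37 : 37 ∣ Nat.card M) {y : Spor.J4} (hyM : y ∈ M) (hy : Commute y (gV ^ 4)) : y ∈ zpowers gV := by
  haveI := finite_J4
  haveI : Fact (Nat.Prime 2) := ⟨Nat.prime_two⟩
  set A := M ⊓ Cw with hA
  set Q := zpowers (gV ^ 3) with hQ
  have hQc : Nat.card Q = 2 ^ 2 := by rw [hQ, Nat.card_zpowers, gV_pow_order]; rfl
  have h4 : Commute gV (gV ^ 4) := (Commute.refl gV).pow_right 4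
  have hvA : gV ∈ A := mem_inf.mpr ⟨hv, mem_cent_iff.mpr h4⟩
  have hQA : Q ≤ A := zpowers_le.mpr (pow_mem hvA 3)
  have hnorm : ∀ g ∈ A, g ∈ normalizer (Q : Set Spor.J4) → g ∈ zpowers gV := by
    intro g hg hgQ
    obtain ⟨hgM, hg4⟩ := mem_inf.mp hg
    refine normalizer_gV hw htop hM hx hv h37 hgM (mem_normalizer_of_conj ?_)
    have hg3 : g * gV ^ 3 * g⁻¹ ∈ Q := (mem_normalizer_iff.mp hgQ _).mp (mem_zpowers _)
    rw [gV_eq, show g * (gV ^ 4 * (gV ^ 3)⁻¹) * g⁻¹ = (g * gV ^ 4 * g⁻¹) * (g * gV ^ 3 * g⁻¹)⁻¹ by group,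
      (mem_cent_iff.mp hg4).eq, mul_inv_cancel_right, ← gV_eq]
    exact mul_mem (npow_mem_zpowers _ _) (inv_mem (zpowers_le.mpr (npow_mem_zpowers gV 3) hg3))
  have hn : ¬ 2 ^ 3 ∣ Nat.card A := by
    intro hd
    obtain ⟨S, hS⟩ := (IsPGroup.of_card (p := 2) (n := 2) ((Nat.card_congr (subgroupOfEquivOfLe hQA).toEquiv).trans hQc) :
      IsPGroup 2 (Q.subgroupOf A)).exists_le_sylow
    have h8 : 8 ≤ Nat.card (S : Subgroup A) := by
      rw [S.card_eq_multiplicity]
      have := (Nat.prime_two.pow_dvd_iff_le_factorization (Nat.card_pos (α := A)).ne').mp hd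
      exact le_trans (by norm_num) (Nat.pow_le_pow_right (by norm_num) this)
    haveI : Group.IsNilpotent S := S.2.isNilpotent
    have hlt : (Q.subgroupOf A).subgroupOf (S : Subgroup A) < ⊤ := lt_top_iff_ne_top.mpr fun e => by
      have hc := congrArg (fun H : Subgroup (S : Subgroup A) => Nat.card H) e
      simp only [card_top, Nat.card_congr (subgroupOfEquivOfLe hS).toEquiv,
        Nat.card_congr (subgroupOfEquivOfLe hQA).toEquiv, hQc] at hc
      omega
    obtain ⟨g, hg, hgQ⟩ := SetLike.exists_of_lt (Group.normalizerCondition_of_isNilpotent _ hlt)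
    have hgn : ((g : A) : Spor.J4) ∈ normalizer (Q : Set Spor.J4) := by
      rw [mem_normalizer_iff]
      intro z
      have key := mem_normalizer_iff.mp hg
      constructor
      · intro hz
        have h1 : (⟨⟨z, hQA hz⟩, hS hz⟩ : (S : Subgroup A)) ∈ (Q.subgroupOf A).subgroupOf (S : Subgroup A) := hz
        exact (key _).mp h1
      · intro hz
        have hzA : z ∈ A := by
          have := mul_mem (mul_mem (inv_mem (g : A).2) (hQA hz)) (g : A).2
          rwa [show ((g : A) : Spor.J4)⁻¹ * (((g : A) : Spor.J4) * z * ((g : A) : Spor.J4)⁻¹) * ((g : A) : Spor.J4) = z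
            by group] at this
        have hzS : (⟨z, hzA⟩ : A) ∈ (S : Subgroup A) := by
          have h1 : (g : A) * ⟨z, hzA⟩ * (g : A)⁻¹ ∈ (S : Subgroup A) := hS hz
          have := mul_mem (mul_mem (inv_mem g.2) h1) g.2
          simpa [mul_assoc] using this
        exact (key ⟨⟨z, hzA⟩, hzS⟩).mpr hz
    obtain ⟨j, hj⟩ := (isOfFinOrder_of_finite gV).mem_powers_iff_mem_zpowers.mpr (hnorm _ (g : A).2 hgn)
    simp only at hj
    obtain ⟨k, hk⟩ := S.2 g
    refine hgQ (?_ : ((g : A) : Spor.J4) ∈ Q)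
    have hk' : orderOf (((g : A) : Spor.J4)) ∣ 2 ^ k := by
      rw [orderOf_dvd_iff_pow_eq_one]
      simpa using congrArg (fun z : (S : Subgroup A) => ((z : A) : Spor.J4)) hk
    rw [← hj, gV_pow_mod] at hk' ⊢
    rw [gV_pow_order] at hk'
    generalize hr : j % 12 = r at hk' ⊢
    have key : ∀ r < 12, r % 3 ≠ 0 → 3 ∣ 12 / Nat.gcd 12 r := by decide
    by_cases hr3 : r % 3 = 0
    · rw [show r = 3 * (r / 3) by omega, pow_mul]
      exact npow_mem_zpowers _ _
    · exact absurd (Nat.Prime.dvd_of_dvd_pow Nat.prime_three ((key r (by omega) hr3).trans hk')) (by norm_num)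
  obtain ⟨O, hOA, hAO, hOc, hOco⟩ := exists_complement_in hQA hQc hn fun g hg hgQ => by
    rw [hQ, mem_centralizer_iff]
    intro z hz
    obtain ⟨i, rfl⟩ := mem_zpowers_iff.mp (zpowers_le.mpr (npow_mem_zpowers gV 3) hz)
    obtain ⟨j, rfl⟩ := mem_zpowers_iff.mp (hnorm g hg hgQ)
    rw [← zpow_add, ← zpow_add, add_comm]
  have hodd : ∀ g ∈ O, ¬ 2 ∣ orderOf g := by
    intro g hg h2
    apply hn
    rw [← hOc, pow_succ', mul_comm (Nat.card O), Nat.mul_comm 2]
    refine Nat.mul_dvd_mul_left _ (h2.trans ?_)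
    have := orderOf_dvd_natCard (⟨g, hg⟩ : O)
    rwa [Subgroup.orderOf_mk] at this
  have hwO : gV ^ 4 ∈ O := hOco _ (pow_mem hvA 4) (by rw [gV_pow_order]; decide)
  -- the involution centralises the odd part
  have ht : ∀ o ∈ O, Commute o (gV ^ 6) := by
    intro o ho
    by_contra hnc
    set t := gV ^ 6 with htd
    have htt : t * t = 1 := by rw [htd, ← pow_add, gV_pow_mod]; exact pow_zero gV
    have htA : t ∈ A := pow_mem hvA 6
    set f := o⁻¹ * (t * o * t⁻¹) with hf
    have hfO : f ∈ O := mul_mem (inv_mem ho) ((mem_normalizer_iff.mp (hAO htA) o).mp ho)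
    have hti : t⁻¹ = t := inv_eq_of_mul_eq_one_right htt
    have hinv : t * f * t⁻¹ = f⁻¹ := by
      rw [hf, mul_inv_rev, inv_inv, hti]
      calc t * (o⁻¹ * (t * o * t)) * t = t * o⁻¹ * t * o * (t * t) := by group
        _ = (t * o * t)⁻¹ * o := by rw [htt, mul_one, mul_inv_rev, mul_inv_rev, hti]; group
    have hf1 : f ≠ 1 := by
      intro h
      apply hnc
      rw [hf, inv_mul_eq_one] at h
      exact (mul_inv_eq_iff_eq_mul.mp h.symm).symm
    obtain ⟨q, hq, hqd⟩ := Nat.exists_prime_and_dvd (fun h => hf1 (orderOf_eq_one_iff.mp h))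
    have hfo := orderOf_pos f
    set f' := f ^ (orderOf f / q) with hf'
    have ho' : orderOf f' = q := orderOf_pow_orderOf_div hfo.ne' hqd
    have hf'O : f' ∈ O := pow_mem hfO _
    have hinv' : t * f' * t⁻¹ = f'⁻¹ := by rw [hf', ← conj_pow, hinv, inv_pow]
    have hfw : f' ∈ Cw := (mem_inf.mp (hOA hf'O)).2
    have hq' : q ∈ [3, 5, 7, 11] := by
      have h2 : q ≠ 2 := fun h => hodd f' hf'O (by rw [ho', h])
      have hd : q ∣ 2661120 := by
        have := orderOf_dvd_natCard (⟨f', hfw⟩ : Cw)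
        rw [Subgroup.orderOf_mk, ho'] at this
        have hc : Nat.card Cw = 2661120 := by
          exact card_Cw hw
        rwa [hc] at this
      rw [show 2661120 = 2 ^ 8 * (3 ^ 3 * (5 * (7 * 11))) by norm_num] at hd
      have hp := fun {p : ℕ} (hp : p.Prime) {n : ℕ} (h : q ∣ p ^ n) => (Nat.prime_dvd_prime_iff_eq hq hp).mp (hq.dvd_of_dvd_pow h)
      simp only [List.mem_cons, List.not_mem_nil, or_false]
      rcases (Nat.Prime.dvd_mul hq).mp hd with h | h
      · exact absurd (hp Nat.prime_two h) h2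
      rcases (Nat.Prime.dvd_mul hq).mp h with h | h
      · exact Or.inl (hp Nat.prime_three h)
      rcases (Nat.Prime.dvd_mul hq).mp h with h | h
      · exact Or.inr (Or.inl ((Nat.prime_dvd_prime_iff_eq hq (by norm_num)).mp h))
      rcases (Nat.Prime.dvd_mul hq).mp h with h | h
      · exact Or.inr (Or.inr (Or.inl ((Nat.prime_dvd_prime_iff_eq hq (by norm_num)).mp h)))
      · exact Or.inr (Or.inr (Or.inr ((Nat.prime_dvd_prime_iff_eq hq (by norm_num)).mp h)))
    -- a square root of f' carries the involution to its product with f'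
    set e' := f' ^ ((q + 1) / 2) with he'
    have he2 : e' * e' = f' := by
      have hodd' : q % 2 = 1 := by
        simp only [List.mem_cons, List.not_mem_nil, or_false] at hq'
        rcases hq' with rfl | rfl | rfl | rfl <;> rfl
      rw [he', ← pow_add, show (q + 1) / 2 + (q + 1) / 2 = q + 1 by omega, pow_succ', ← ho', pow_orderOf_eq_one,
        mul_one]
    have he'inv : t * e'⁻¹ * t⁻¹ = e' := by
      rw [← conj_inv, he', ← conj_pow, hinv', inv_pow, inv_inv]
    have hconj : e'⁻¹ * t * e' = t * f' := by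
      calc e'⁻¹ * t * e' = t * (t * e'⁻¹ * t⁻¹) * e' := by rw [← mul_assoc t, ← mul_assoc t, htt, one_mul, hti]
        _ = t * f' := by rw [he'inv, mul_assoc, he2]
    obtain ⟨p, hp, hpe⟩ := (complete hw).2.2.1 e' (pow_mem hfw _)
    rw [hconj] at hpe
    have hfe : f' = gV ^ 6 * gT p := by rw [← hpe, ← mul_assoc, htt, one_mul]
    rcases inverted_cases hw htop hx hv h37 (list_shapes.2.2.2.2.2 p hp) hq' (hfe ▸ ho')
        (hfe ▸ (mem_inf.mp (hOA hf'O)).1) with h | ⟨g, hg, hg2⟩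
    · exact hM h
    · refine hodd g ((Subgroup.closure_le O).mpr ?_ hg) hg2
      rw [← hfe]
      rintro z (rfl | rfl | rfl)
      · exact hf'O
      · simpa using (mem_normalizer_iff.mp (hAO (inv_mem (pow_mem hvA 3))) f').mp hf'O
      · exact hwO
  -- so does the element of order 4
  have hu : ∀ o ∈ O, Commute o (gV ^ 3) := by
    intro o ho
    by_contra hnc
    set u := gV ^ 3 with hud
    set f := o⁻¹ * (u * o * u⁻¹) with hf
    have hfO : f ∈ O := mul_mem (inv_mem ho) ((mem_normalizer_iff.mp (hAO (pow_mem hvA 3)) o).mp ho)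
    have huu : u * (u * o * u⁻¹) * u⁻¹ = o := by
      rw [show u * (u * o * u⁻¹) * u⁻¹ = (u * u) * o * (u * u)⁻¹ by group, hud, ← pow_add, (ht o ho).symm.eq,
        mul_inv_cancel_right]
    have hinv : u * f * u⁻¹ = f⁻¹ := by
      rw [hf]
      calc u * (o⁻¹ * (u * o * u⁻¹)) * u⁻¹ = (u * o * u⁻¹)⁻¹ * (u * (u * o * u⁻¹) * u⁻¹) := by group
        _ = (u * o * u⁻¹)⁻¹ * o := by rw [huu]
        _ = (o⁻¹ * (u * o * u⁻¹))⁻¹ := by group
    have hf1 : f ≠ 1 := by
      intro h
      apply hnc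
      rw [hf, inv_mul_eq_one] at h
      exact (mul_inv_eq_iff_eq_mul.mp h.symm).symm
    have hmem : ∀ g ∈ O, g ∈ C2304 := fun g hg => C2304_iff.mpr ⟨(mem_inf.mp (hOA hg)).2, ht g hg⟩
    have h3 : 3 ∣ orderOf f := by
      have hd : orderOf f ∣ 2304 := by
        have := orderOf_dvd_natCard (⟨f, hmem f hfO⟩ : C2304)
        rwa [Subgroup.orderOf_mk, (complete hw).2.2.2.1] at this
      obtain ⟨q, hq, hqd⟩ := Nat.exists_prime_and_dvd (fun h => hf1 (orderOf_eq_one_iff.mp h))
      have hq2 := hqd.trans hd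
      rw [show 2304 = 2 ^ 8 * 3 ^ 2 by norm_num] at hq2
      rcases (Nat.Prime.dvd_mul hq).mp hq2 with h | h
      · exact absurd ((Nat.prime_dvd_prime_iff_eq hq Nat.prime_two).mp (hq.dvd_of_dvd_pow h) ▸ hqd) (hodd f hfO)
      · exact (Nat.prime_dvd_prime_iff_eq hq Nat.prime_three).mp (hq.dvd_of_dvd_pow h) ▸ hqd
    set f' := f ^ (orderOf f / 3) with hf'
    have ho' : orderOf f' = 3 := orderOf_pow_orderOf_div (orderOf_pos f).ne' h3
    have hf'O : f' ∈ O := pow_mem hfO _
    refine hM (cube_cases hw htop hx hv h37 (hmem f' hf'O) (mem_inf.mp (hOA hf'O)).1 ?_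
      (ho' ▸ pow_orderOf_eq_one f') (by rw [hf', ← conj_pow, hinv, inv_pow]))
    intro h
    rw [h, orderOf_one] at ho'
    norm_num at ho'
  have hO : O ≤ zpowers (gV ^ 4) := fun o ho => by
    obtain ⟨hoM, ho4⟩ := mem_inf.mp (hOA ho)
    exact odd_in_zpowers (normalizer_gV hw htop hM hx hv h37 hoM (mem_normalizer_of_conj (by
      rw [(comm_gV (mem_cent_iff.mp ho4) (hu o ho)).eq, mul_inv_cancel_right]
      exact mem_zpowers _))) (hodd o ho)
  have hcard : Nat.card A ≤ Nat.card (zpowers gV) := by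
    rw [← hOc, Nat.card_zpowers gV, gV_order]
    have := Nat.card_le_card_of_injective _ (inclusion_injective hO)
    rw [Nat.card_zpowers, gV_pow_order] at this
    exact le_trans (Nat.mul_le_mul_right _ this) (by decide)
  rw [eq_of_le_of_card_ge (zpowers_le.mpr hvA) hcard]
  exact mem_inf.mpr ⟨hyM, mem_cent_iff.mpr hy⟩

end Cfsg.Lib.J4Maximal.P37
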