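import Cfsg.Agent.J4Cert.Mat
import Cfsg.Agent.J4Cert.SylDef
import Cfsg.Agent.J4Maximal.Data.Plan

/-!
Evaluation of words on vectors and the shape of the finite checks for the prime 37.
-/

set_option autoImplicit false
set_option maxRecDepth 8000

namespace Cfsg.Lib.J4Maximal.P37

open Cfsg.Lib.J4Cert

/-- The table of a pool element. -/
def ptab (k : ℕ) : List ℕ := ptabs.getD k []

/-- A word applied to a vector. -/
def act : List ℕ → ℕ → ℕ
  | [], z => z
  | k :: w, z => act w (vt (ptab k) z)

/-- A word applied repeatedly. -/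
def rep (w : List ℕ) : ℕ → ℕ → ℕ
  | 0, z => z
  | n + 1, z => rep w n (act w z)

/-- The word of an element of the centraliser of order 48. -/
def cW (i : ℕ) : List ℕ :=
  (bif Nat.beq (i / 4) 0 then [] else [11 + i / 4]) ++ (bif Nat.beq (i % 4) 0 then [] else [22 + i % 4])

/-- The word of its inverse. -/
def dW (i : ℕ) : List ℕ :=
  (bif Nat.beq (i % 4) 0 then [] else [25 + i % 4]) ++ (bif Nat.beq (i / 4) 0 then [] else [11 + (12 - i / 4)])

/-- The word of a representative conjugate of the element of order 12. -/
def conj1 (r : ℕ) : List ℕ := rep1i.getD r [] ++ [12] ++ rep1.getD r []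

/-- The word of a representative conjugate of the involution. -/
def conj2 (r : ℕ) : List ℕ := rep2i.getD r [] ++ [0] ++ rep2.getD r []

/-- The word of a product of the involution with a representative conjugate. -/
def fW (r : ℕ) : List ℕ := 0 :: conj2 r

/-- The key of an element of order dividing 48. -/
def key0 (i : ℕ) : ℕ := act (cW i) w0

/-- The key of a conjugate of the element of order 12. -/
def key1 (p : ℕ × ℕ) : ℕ := act (dW p.2 ++ conj1 p.1 ++ cW p.2) w0

/-- The key of a conjugate of the involution. -/
def key2 (p : ℕ × ℕ) : ℕ := act (dW p.2 ++ conj2 p.1 ++ cW p.2) w0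

/-- The keys increase from a lower bound and stay below an upper bound. -/
def incr {α : Type} (key : α → ℕ) (hi : ℕ) : ℕ → List α → Bool
  | lo, [] => Nat.ble lo hi
  | lo, a :: l => (fun k => Nat.ble lo k && incr key hi (k + 1) l) (key a)

/-- The four words generating the odd part over an inverted element. -/
def genW (r i : ℕ) : List ℕ :=
  [fW r, [20] ++ fW r ++ [14], [15], fW r ++ fW r].getD i []

/-- The word of a certificate. -/
def Crt.word (c : Crt) (y : List ℕ) : List ℕ :=
  [c.i] ++ c.a ++ y ++ bif c.dbl then c.j ++ y else []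

/-- A vector fixed by a power of prime index but not by the word. -/
def moved (w : List ℕ) (q z : ℕ) : Bool := decide (z < 2 ^ 112) && (rep w q z == z) && (act w z != z)

/-- The letters allowed in certificate words. -/
def xLetter (k : ℕ) : Bool := k == 1 || decide (12 ≤ k ∧ k ≤ 22) || decide (29 ≤ k ∧ k < 37)

/-- A certificate is correct. -/
def Crt.ok (c : Crt) (q : ℕ) (y : List ℕ) : Bool :=
  xLetter c.i && c.a.all xLetter && c.j.all xLetter && moved (c.word y) q c.z

/-- The word of an element normalising the cyclic group of order 12. -/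
def yW1 (p : ℕ × ℕ) : List ℕ :=
  (bif Nat.beq p.2 0 then [] else [22 + p.2]) ++ [[], [2], [3], [2, 3]].getD p.1 []

/-- The word of a moved inverted element. -/
def yW2 (p : ℕ × ℕ) : List ℕ :=
  (bif Nat.beq p.2 0 then [] else [25 + p.2]) ++ fW p.1 ++ (bif Nat.beq p.2 0 then [] else [22 + p.2])

/-- The word of a moved inverted element in the centraliser of order 2304. -/
def yW3 (p : ℕ × ℕ × ℕ) : List ℕ :=
  (bif Nat.beq p.2.2 0 then [] else [22 + p.2.2]) ++ (rep1.getD p.1 [] ++ cW p.2.1) ++
    (bif Nat.beq p.2.2 0 then [] else [25 + p.2.2])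

/-- The check of a filtered representative. -/
def filtOK (e : ℕ × List ℕ × ℕ) : Bool :=
  e.2.1.all (fun i => decide (i < 4)) && moved (e.2.1.flatMap (genW e.1)) 2 e.2.2

/-- The orders excluded for a representative. -/
def nonOrd (r : ℕ) : Bool :=
  (fun w => [3, 5, 7, 11].all fun q => rep w q w0 != w0) (fW r)

/-- The representative of a hit list. -/
def covered (r : ℕ) : Bool := filt.any (fun e => e.1 == r) || ((List.range 4).all fun b => cover.any fun e => e.1 == (r, b))

/-- The check of a moved representative. -/
def coverOK (e : (ℕ × ℕ) × ℕ × ℕ × ℕ) : Bool :=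
  decide (e.2.2.1 < 12 ∧ e.2.2.2 < 4) && (crt2.any fun c => c.1 == (e.2.1, e.2.2.2)) &&
    key2 e.1 == key2 (e.2.1, e.2.2.1 * 4 + e.2.2.2)

/-- The check of an element of the centraliser of order 2304. -/
def cubeOK (r i : ℕ) : Bool :=
  (r == 0 && i == 0) || (fun w => act (w ++ w ++ w) w0 != w0 || act ([14] ++ w ++ [20] ++ w) w0 != w0)
      (rep1.getD r [] ++ cW i) ||
    (List.range 4).all fun b => crt3.any fun c => c.1 == (r, i, b)

end Cfsg.Lib.J4Maximal.P37
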