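import Cfsg.Agent.J4Maximal.P37.Nodes
import Cfsg.Agent.J4Maximal.P37.Words
import Cfsg.Agent.J4Cert.SylDef

/-!
The relations among the pool elements and the shapes of the lists.
-/

set_option autoImplicit false
set_option maxRecDepth 20000
set_option Elab.async false

namespace Cfsg.Lib.J4Maximal.P37

open Cfsg.Lib.J4Cert

/-- The matrix of a pool element. -/
def pm' (k : ℕ) : List ℕ := nd (pnode.getD k 0)

/-- The tables belong to the nodes. -/
def poolOK : Bool :=
  (List.range 37).all fun k => decide (pnode.getD k 0 < 522) && leq (tabs4 (pm' k)) (ptab k)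

/-- The relations of the normaliser of order 444. -/
def baseOK : Bool :=
  leq (mPow (pm' 1) 37) J4Rep.idMat && !leq (pm' 1) J4Rep.idMat &&
    (List.range 10).all (fun a => leq (mB (pm' (12 + a)) (pm' 12)) (pm' (13 + a))) &&
    leq (mB (pm' 22) (pm' 12)) J4Rep.idMat && pnode.getD 17 0 == pnode.getD 0 0 &&
    leq (mB (pm' 1) (pm' 12)) (mB (pm' 12) (mPow (pm' 1) 8))

/-- The powers of the element of order 37 in the pool. -/
def xPowOK : Bool :=
  [(29, 1), (30, 2), (31, 3), (32, 4), (33, 5), (34, 7), (35, 9), (36, 11)].all fun e =>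
    leq (pm' e.1) (mPow (pm' 1) e.2)

/-- The generators of the centralisers. -/
def centOK : Bool :=
  (List.range 8).all (fun i => leq (mB (pm' (4 + i)) (pm' 15)) (mB (pm' 15) (pm' (4 + i))) &&
    leq (mB (pm' (4 + i)) (pm' (4 + (i ^^^ 1)))) J4Rep.idMat) &&
    (List.range 6).all (fun i => leq (mB (pm' (4 + i)) (pm' 0)) (mB (pm' 0) (pm' (4 + i)))) &&
    (List.range 3).all (fun b => leq (mB (pm' (23 + b)) (pm' 12)) (mB (pm' 12) (pm' (23 + b))) &&
      leq (mB (pm' (23 + b)) (pm' (26 + b))) J4Rep.idMat) &&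
    leq (mB (pm' 12) (pm' 2)) (mB (pm' 2) (pm' 16)) && leq (mB (pm' 12) (pm' 3)) (mB (pm' 3) (pm' 22))

/-- The list of conjugates of the involution. -/
def ord2 : List (ℕ × ℕ) := ord2_0 ++ ord2_1 ++ ord2_2 ++ ord2_3 ++ ord2_4 ++ ord2_5 ++ ord2_6 ++ ord2_7

/-- The shapes of the lists. -/
def shapeOK : Bool :=
  w0 < 2 ^ 112 && ord0.length == 48 && ord0.all (fun i => decide (i < 48)) &&
    ord1.length == 48 && ord1.all (fun p => decide (p.1 < 20 ∧ p.2 < 48)) &&
    ord2.length == 1155 && ord2.all (fun p => decide (p.1 < 165 ∧ p.2 < 48)) &&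
    (List.range 20).all (fun r => (rep1.getD r []).all (fun k => decide (4 ≤ k ∧ k < 10)) &&
      rep1i.getD r [] == (rep1.getD r []).reverse.map (fun k => 4 + ((k - 4) ^^^ 1))) &&
    (List.range 165).all (fun r => (rep2.getD r []).all (fun k => decide (4 ≤ k ∧ k < 12)) &&
      rep2i.getD r [] == (rep2.getD r []).reverse.map (fun k => 4 + ((k - 4) ^^^ 1))) &&
    rep2.getD 0 [] == [] && rep1.getD 0 [] == [] &&
    cover.all (fun e => decide (e.1.1 < 165 ∧ e.1.2 < 4 ∧ e.2.1 < 165)) &&
    filt.all (fun e => decide (e.1 < 165)) &&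
    crt1.all (fun e => decide (e.1.1 < 4 ∧ e.1.2 < 4)) && crt2.all (fun e => decide (e.1.1 < 165 ∧ e.1.2 < 4)) &&
    crt3.all (fun e => decide (e.1.1 < 20 ∧ e.1.2.1 < 48 ∧ e.1.2.2 < 4))

theorem pool_ok : poolOK = true := by decide +kernel
theorem base_ok : baseOK = true := by decide +kernel
theorem xPow_ok : xPowOK = true := by decide +kernel
theorem cent_ok : centOK = true := by decide +kernel
theorem shape_ok : shapeOK = true := by decide +kernel

end Cfsg.Lib.J4Maximal.P37
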